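import Cfsg.Agent.Lib.Co1Type47.Frame

/-!
First consequences of the coordinates: squares, commutators, transport, transitivity on tuples.
-/

set_option autoImplicit false

namespace Cfsg.Agent.Lib.Co1Type47

open LargeExtra

variable {G : Type*} [Group G] {z : G} {R : Subgroup G}

/-- `z^t` for `t : F₂`. -/
def bpow (z : G) (t : ZMod 2) : G := if t = 0 then 1 else z

theorem bpow_zero (z : G) : bpow z 0 = 1 := rfl

theorem bpow_one (z : G) : bpow z 1 = z := rfl

theorem bpow_cases (z : G) (t : ZMod 2) : bpow z t = 1 ∨ bpow z t = z := by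
  rcases zmod_cases t with rfl | rfl <;> [left; right] <;> rfl

theorem bpow_eq_one {z : G} (hz : z ≠ 1) {t : ZMod 2} : bpow z t = 1 ↔ t = 0 := by
  rcases zmod_cases t with rfl | rfl <;> simp [bpow, hz]

theorem bpow_inj {z : G} (hz : z ≠ 1) {s t : ZMod 2} (h : bpow z s = bpow z t) : s = t := by
  rcases zmod_cases t with rfl | rfl
  · exact (bpow_eq_one hz).1 h
  · rcases zmod_cases s with rfl | rfl
    · exact absurd h.symm hz
    · rfl

theorem bpow_mul {z : G} (hzz : z * z = 1) (s t : ZMod 2) : bpow z s * bpow z t = bpow z (s + t) := by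
  rcases zmod_cases s with rfl | rfl <;> rcases zmod_cases t with rfl | rfl <;>
    simp [bpow, hzz, (by decide : (1 : ZMod 2) + 1 = 0)]

namespace Data

variable (D : Data z R) (hR : Good R z)

include hR in
theorem phi_one : D.phi 1 = 0 := (D.phi_eq_zero 1 R.one_mem).2 (Or.inl rfl)

include hR in
theorem phi_z : D.phi z = 0 := (D.phi_eq_zero z hR.x_mem).2 (Or.inr rfl)

include hR in
theorem phi_inv {a : G} (ha : a ∈ R) : D.phi a⁻¹ = D.phi a := by
  have h := D.phi_mul a ha a⁻¹ (inv_mem ha)
  rw [mul_inv_cancel, D.phi_one hR] at h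
  exact (add_eq_zero.1 h.symm).symm

include hR in
theorem eq_or_of_phi_eq {a b : G} (ha : a ∈ R) (hb : b ∈ R) (h : D.phi a = D.phi b) :
    a = b ∨ a = b * z := by
  have h0 : D.phi (b⁻¹ * a) = 0 := by
    rw [D.phi_mul _ (inv_mem hb) _ ha, D.phi_inv hR hb, h, add_self]
  rcases (D.phi_eq_zero _ (mul_mem (inv_mem hb) ha)).1 h0 with e | e
  · exact Or.inl (inv_mul_eq_one.1 e).symm
  · exact Or.inr (by rw [← e, mul_inv_cancel_left])

include hR in
theorem phi_mul_z {a : G} (ha : a ∈ R) : D.phi (a * z) = D.phi a := by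
  rw [D.phi_mul a ha z hR.x_mem, D.phi_z hR, add_zero]

include hR in
theorem sq_eq {a : G} (ha : a ∈ R) : a * a = bpow z (qV (D.phi a)) := by
  rcases zmod_cases (qV (D.phi a)) with h | h
  · rw [h, bpow_zero]; exact (D.sq_iff a ha).2 h
  · rw [h, bpow_one]
    refine (hR.sq_cases ha).resolve_left fun e => ?_
    rw [(D.sq_iff a ha).1 e] at h
    exact zero_ne_one h

include hR in
theorem conj_eq {a b : G} (ha : a ∈ R) (hb : b ∈ R) :
    b * a * b⁻¹ = a * bpow z (bV (D.phi b) (D.phi a)) := by
  rcases zmod_cases (bV (D.phi b) (D.phi a)) with h | h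
  · rw [h, bpow_zero, mul_one]
    exact conj_eq_iff_comm.2 ((D.comm_iff b hb a ha).2 h)
  · rw [h, bpow_one]
    refine (hR.comm b hb a ha).resolve_left fun e => ?_
    rw [(D.comm_iff b hb a ha).1 (conj_eq_iff_comm.1 e)] at h
    exact zero_ne_one h

theorem act_add {c : G} (hc : c * z = z * c) (hRc : ∀ a ∈ R, c * a * c⁻¹ ∈ R) (u v : V8) :
    D.act c (u + v) = D.act c u + D.act c v := by
  obtain ⟨a, ha, rfl⟩ := D.phi_surj u
  obtain ⟨b, hb, rfl⟩ := D.phi_surj v
  rw [← D.phi_mul a ha b hb, ← D.act_phi c hc _ (mul_mem ha hb), ← D.act_phi c hc a ha,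
    ← D.act_phi c hc b hb, ← D.phi_mul _ (hRc a ha) _ (hRc b hb)]
  congr 1
  group

include hR in
theorem act_zero {c : G} (hc : c * z = z * c) : D.act c 0 = 0 := by
  rw [← D.phi_one hR, ← D.act_phi c hc 1 R.one_mem, mul_one, mul_inv_cancel]

include hR in
theorem act_of_mem {c : G} (hc : c ∈ R) (v : V8) : D.act c v = v := by
  obtain ⟨a, ha, rfl⟩ := D.phi_surj v
  rw [← D.act_phi c (hR.le_cent c hc) a ha]
  rcases hR.comm c hc a ha with e | e <;> rw [e]
  exact D.phi_mul_z hR ha

include hR in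
theorem act_mul {c d : G} (hc : c * z = z * c) (hd : d * z = z * d) (v : V8) :
    D.act (c * d) v = D.act c (D.act d v) := by
  have hcd : (c * d) * z = z * (c * d) := by rw [mul_assoc, hd, ← mul_assoc, hc, mul_assoc]
  obtain ⟨a, ha, rfl⟩ := D.phi_surj v
  rw [← D.act_phi _ hcd a ha, ← D.act_phi d hd a ha,
    ← D.act_phi c hc _ (hR.norm d hd a ha)]
  congr 1
  group

include hR in
theorem act_one (v : V8) : D.act 1 v = v := D.act_of_mem hR R.one_mem v

include hR in
theorem act_inv_act {c : G} (hc : c * z = z * c) (v : V8) : D.act c⁻¹ (D.act c v) = v := by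
  rw [← D.act_mul hR (show c⁻¹ * z = z * c⁻¹ from (Commute.inv_left hc :)) hc, inv_mul_cancel,
    D.act_one hR]

include hR in
theorem act_bil {c : G} (hc : c * z = z * c) (u v : V8) :
    bV (D.act c u) (D.act c v) = bV u v := by
  have h := D.act_iso c hc (u + v)
  rw [D.act_add hc (fun a ha => hR.norm c hc a ha), qV_add, qV_add, D.act_iso c hc,
    D.act_iso c hc] at h
  exact add_left_cancel h

include hR in
/-- Tuples with the same Gram data, one of them orthogonal to a nonsingular vector, are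
conjugate under `C(z)`. -/
theorem exists_map {n : ℕ} (v w : Fin n → V8) (hv : LinearIndependent (ZMod 2) v)
    (hw : LinearIndependent (ZMod 2) w) (hq : ∀ i, qV (v i) = qV (w i))
    (hb : ∀ i j, bV (v i) (v j) = bV (w i) (w j))
    (u : V8) (hu : qV u = 1) (huw : ∀ i, bV u (w i) = 0) :
    ∃ c, c * z = z * c ∧ ∀ i, D.act c (v i) = w i := by
  obtain ⟨g, hg⟩ := witt w v hw hv (fun i => (hq i).symm) (fun i j => (hb i j).symm)
  obtain ⟨c, hc, hcw⟩ : ∃ c, c * z = z * c ∧ ∀ i, D.act c (w i) = v i := by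
    rcases D.exists_act g u hu with ⟨c, hc, h⟩ | ⟨c, hc, h⟩
    · exact ⟨c, hc, fun i => by rw [h, hg]⟩
    · exact ⟨c, hc, fun i => by rw [h, refl_of_orth (huw i), hg]⟩
  exact ⟨c⁻¹, (Commute.inv_left hc :), fun i => by rw [← hcw i, D.act_inv_act hR hc]⟩

/-- New coordinates by an isometry. -/
def recoord (g : Iso) : Data z R where
  card := D.card
  phi a := g.map (D.phi a)
  phi_mul a ha b hb := by rw [D.phi_mul a ha b hb, g.map.map_add]
  phi_surj v := by
    obtain ⟨a, ha, e⟩ := D.phi_surj (g.map.symm v)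
    exact ⟨a, ha, by rw [e, AddEquiv.apply_symm_apply]⟩
  phi_eq_zero a ha := by rw [← D.phi_eq_zero a ha, AddEquiv.map_eq_zero_iff]
  sq_iff a ha := by rw [g.iso]; exact D.sq_iff a ha
  comm_iff a ha b hb := by rw [g.bil]; exact D.comm_iff a ha b hb
  act c v := g.map (D.act c (g.map.symm v))
  act_phi c hc a ha := by rw [AddEquiv.symm_apply_apply, D.act_phi c hc a ha]
  act_eq_id c hc h := D.act_eq_id c hc fun v => g.map.injective (by
    simpa using h (g.map v))
  act_iso c hc v := by rw [g.iso, D.act_iso c hc]; exact g.inv.iso v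
  exists_act h v hv := by
    have hv' : qV (g.map.symm v) = 1 := by rw [← g.iso, AddEquiv.apply_symm_apply, hv]
    have hr : ∀ x, g.map (refl (g.map.symm v) (g.map.symm x)) = refl v x := by
      intro x
      have hb : bV (g.map.symm v) (g.map.symm x) = bV v x := g.inv.bil v x
      unfold refl
      rw [hb]
      split_ifs with h0
      · simp
      · rw [g.map.map_add, AddEquiv.apply_symm_apply, AddEquiv.apply_symm_apply]
    rcases D.exists_act (g.inv.comp (h.comp g)) (g.map.symm v) hv' with ⟨c, hc, e⟩ | ⟨c, hc, e⟩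
    · refine Or.inl ⟨c, hc, fun x => ?_⟩
      simp [e, Iso.comp, Iso.inv]
    · refine Or.inr ⟨c, hc, fun x => ?_⟩
      simp [e, Iso.comp, Iso.inv, hr]
  act_ne_refl c hc v hv h := by
    have hv' : qV (g.map.symm v) = 1 := by rw [← g.iso, AddEquiv.apply_symm_apply, hv]
    refine D.act_ne_refl c hc _ hv' fun x => g.map.injective ?_
    have hx := h (g.map x)
    rw [AddEquiv.symm_apply_apply] at hx
    rw [hx]
    have hb : bV (g.map.symm v) x = bV v (g.map x) := by
      rw [← g.bil, AddEquiv.apply_symm_apply]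
    unfold refl
    rw [hb]
    split_ifs with h0
    · simp
    · rw [g.map.map_add, AddEquiv.apply_symm_apply]

theorem recoord_phi (g : Iso) (a : G) : (D.recoord g).phi a = g.map (D.phi a) := rfl

/-- Transport by conjugation. -/
def transport (g : G) {R' : Subgroup G} (hR' : ∀ a, a ∈ R' ↔ g⁻¹ * a * g ∈ R) :
    Data (g * z * g⁻¹) R' where
  card := by
    rw [← D.card]
    exact Nat.card_congr
      { toFun := fun a => ⟨g⁻¹ * a * g, (hR' a).1 a.2⟩
        invFun := fun a => ⟨g * a * g⁻¹, (hR' _).2 (by simp [mul_assoc])⟩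
        left_inv := fun a => Subtype.ext (by simp [mul_assoc])
        right_inv := fun a => Subtype.ext (by simp [mul_assoc]) }
  phi a := D.phi (g⁻¹ * a * g)
  phi_mul a ha b hb := by
    rw [← D.phi_mul _ ((hR' a).1 ha) _ ((hR' b).1 hb)]
    congr 1; group
  phi_surj v := by
    obtain ⟨a, ha, e⟩ := D.phi_surj v
    refine ⟨g * a * g⁻¹, (hR' _).2 (by simpa [mul_assoc] using ha), ?_⟩
    rw [← e]; congr 1; group
  phi_eq_zero a ha := by
    rw [D.phi_eq_zero _ ((hR' a).1 ha)]
    constructor
    · rintro (e | e)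
      · exact Or.inl (by calc a = g * (g⁻¹ * a * g) * g⁻¹ := by group
                              _ = 1 := by rw [e]; group)
      · exact Or.inr (by calc a = g * (g⁻¹ * a * g) * g⁻¹ := by group
                              _ = _ := by rw [e])
    · rintro (rfl | rfl) <;> simp [mul_assoc]
  sq_iff a ha := by
    rw [← D.sq_iff _ ((hR' a).1 ha)]
    constructor
    · intro e
      calc g⁻¹ * a * g * (g⁻¹ * a * g) = g⁻¹ * (a * a) * g := by group
        _ = 1 := by rw [e]; group
    · intro e
      calc a * a = g * (g⁻¹ * a * g * (g⁻¹ * a * g)) * g⁻¹ := by group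
        _ = 1 := by rw [e]; group
  comm_iff a ha b hb := by
    rw [← D.comm_iff _ ((hR' a).1 ha) _ ((hR' b).1 hb)]
    constructor
    · intro e
      calc g⁻¹ * a * g * (g⁻¹ * b * g) = g⁻¹ * (a * b) * g := by group
        _ = _ := by rw [e]; group
    · intro e
      calc a * b = g * (g⁻¹ * a * g * (g⁻¹ * b * g)) * g⁻¹ := by group
        _ = _ := by rw [e]; group
  act c := D.act (g⁻¹ * c * g)
  act_phi c hc a ha := by
    have h : (g⁻¹ * c * g) * z = z * (g⁻¹ * c * g) := by
      calc g⁻¹ * c * g * z = g⁻¹ * (c * (g * z * g⁻¹)) * g := by group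
        _ = _ := by rw [hc]; group
    rw [← D.act_phi _ h _ ((hR' a).1 ha)]
    congr 1; group
  act_eq_id c hc h := (hR' c).2 (D.act_eq_id _ (by
      calc g⁻¹ * c * g * z = g⁻¹ * (c * (g * z * g⁻¹)) * g := by group
        _ = _ := by rw [hc]; group) h)
  act_iso c hc := D.act_iso _ (by
      calc g⁻¹ * c * g * z = g⁻¹ * (c * (g * z * g⁻¹)) * g := by group
        _ = _ := by rw [hc]; group)
  exists_act h v hv := by
    rcases D.exists_act h v hv with ⟨c, hc, e⟩ | ⟨c, hc, e⟩
    · refine Or.inl ⟨g * c * g⁻¹, ?_, fun x => by simpa [mul_assoc] using e x⟩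
      calc g * c * g⁻¹ * (g * z * g⁻¹) = g * (c * z) * g⁻¹ := by group
        _ = _ := by rw [hc]; group
    · refine Or.inr ⟨g * c * g⁻¹, ?_, fun x => by simpa [mul_assoc] using e x⟩
      calc g * c * g⁻¹ * (g * z * g⁻¹) = g * (c * z) * g⁻¹ := by group
        _ = _ := by rw [hc]; group
  act_ne_refl c hc := D.act_ne_refl _ (by
      calc g⁻¹ * c * g * z = g⁻¹ * (c * (g * z * g⁻¹)) * g := by group
        _ = _ := by rw [hc]; group)

end Data

namespace Hyp

variable {Qf : G → Subgroup G} (H : Hyp z Qf)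
include H

theorem goodAt [Finite G] (g : G) : Good (Qf (g * z * g⁻¹)) (g * z * g⁻¹) := by
  have hz : orderOf z = 2 := orderOf_eq_prime (by rw [pow_two, H.good.x_sq]) H.good.x_ne
  have back : ∀ q, q ∈ Qf (g * z * g⁻¹) → g⁻¹ * q * g ∈ Qf z := fun q hq => by
    simpa [mul_assoc] using H.coreMap.conj_mem g⁻¹ hq
  have fwd : ∀ q, q ∈ Qf z → g * q * g⁻¹ ∈ Qf (g * z * g⁻¹) := fun q hq => H.coreMap.conj_mem g hq
  exact {
    x_mem := fwd z H.good.x_mem
    x_sq := by calc g * z * g⁻¹ * (g * z * g⁻¹) = g * (z * z) * g⁻¹ := by group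
                _ = 1 := by rw [H.good.x_sq]; group
    x_ne := fun e => H.good.x_ne (by simpa using e)
    le_cent := fun q hq => H.coreMap.le_centralizer hq
    comm := fun a ha b hb => by
      rcases H.good.comm _ (back a ha) _ (back b hb) with e | e
      · left
        calc a * b * a⁻¹ = g * (g⁻¹ * a * g * (g⁻¹ * b * g) * (g⁻¹ * a * g)⁻¹) * g⁻¹ := by group
          _ = b := by rw [e]; group
      · right
        calc a * b * a⁻¹ = g * (g⁻¹ * a * g * (g⁻¹ * b * g) * (g⁻¹ * a * g)⁻¹) * g⁻¹ := by group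
          _ = _ := by rw [e]; group
    centre := fun a ha hall => by
      rcases H.good.centre _ (back a ha) (fun b hb => by
        have h := hall _ (fwd b hb)
        calc g⁻¹ * a * g * b = g⁻¹ * (a * (g * b * g⁻¹)) * g := by group
          _ = _ := by rw [h]; group) with e | e
      · left
        calc a = g * (g⁻¹ * a * g) * g⁻¹ := by group
          _ = 1 := by rw [e]; group
      · right
        calc a = g * (g⁻¹ * a * g) * g⁻¹ := by group
          _ = _ := by rw [e]
    nonab := by
      obtain ⟨a, ha, b, hb, hne⟩ := H.good.nonab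
      refine ⟨_, fwd a ha, _, fwd b hb, fun e => hne ?_⟩
      calc a * b = g⁻¹ * (g * a * g⁻¹ * (g * b * g⁻¹)) * g := by group
        _ = b * a := by rw [e]; group
    norm := fun h hh q hq => H.coreMap.normalized hh hq
    cent := fun h hh => by
      have := fwd _ (H.good.cent (g⁻¹ * h * g) fun q hq => by
        have hq' := hh _ (fwd q hq)
        calc g⁻¹ * h * g * q = g⁻¹ * (h * (g * q * g⁻¹)) * g := by group
          _ = _ := by rw [hq']; group)
      simpa [mul_assoc] using this }

theorem mem_conj_iff (g : G) (a : G) : a ∈ Qf (g * z * g⁻¹) ↔ g⁻¹ * a * g ∈ Qf z := by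
  constructor
  · intro h; simpa [mul_assoc] using H.coreMap.conj_mem g⁻¹ h
  · intro h; simpa [mul_assoc] using H.coreMap.conj_mem g h

theorem dataAt (g : G) : Nonempty (Data (g * z * g⁻¹) (Qf (g * z * g⁻¹))) :=
  H.data.map fun D => D.transport g (H.mem_conj_iff g)

end Hyp

end Cfsg.Agent.Lib.Co1Type47
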