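import Cfsg.Agent.Lib.Co1Type47.Typed

/-!
Orthogonal pairs of conjugates of `z`: existence, adapted coordinates, conjugacy.
-/

set_option autoImplicit false

namespace Cfsg.Agent.Lib.Co1Type47

open LargeExtra

variable {G : Type*} [Group G] [Finite G] {z : G} {Qf : G → Subgroup G}

theorem witt_one {u : V8} (hu : u ≠ 0) (hq : qV u = 0) : ∃ g : Iso, g.map u = e₀ := by
  obtain ⟨g, hg⟩ := witt ![u] ![e₀] (linearIndependent_unique_iff.2 (by simpa using hu))
    (linearIndependent_unique_iff.2 (by simpa using e₀_ne))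
    (fun i => by fin_cases i; simp [hq, qV_e₀])
    (fun i j => by fin_cases i; fin_cases j; simp [bV_self])
  exact ⟨g, by simpa using hg 0⟩

namespace Hyp

variable (H : Hyp z Qf)
include H

theorem good_of {w : G} (hw : IsConj z w) : Good (Qf w) w := by
  obtain ⟨g, rfl⟩ := isConj_iff.1 hw
  exact H.goodAt g

theorem data_of {w : G} (hw : IsConj z w) : Nonempty (Data w (Qf w)) := by
  obtain ⟨g, rfl⟩ := isConj_iff.1 hw
  exact H.dataAt g

/-- Coordinates at `w` sending `s` to `e₀` extend to a pair. -/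
theorem pair_aux {w s : G} (hw : IsConj z w) (hs : IsConj z s) (D : Data w (Qf w))
    (hsw : s ∈ Qf w) (hphi : D.phi s = e₀) : ∃ P : Pair w s Qf, P.D = D := by
  obtain ⟨D'⟩ := H.data_of hs
  have gw := H.good_of hw
  have gs := H.good_of hs
  have hws : w ∈ Qf s := H.coreMap.orth_symm gs gw hsw
  have hne : D'.phi w ≠ 0 := fun h => by
    rcases (D'.phi_eq_zero w hws).1 h with e | e
    · exact gw.x_ne e
    · subst e
      rw [D.phi_z gw] at hphi
      exact e₀_ne hphi.symm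
  obtain ⟨g, hg⟩ := witt_one hne ((D'.sq_iff w hws).1 gw.x_sq)
  exact ⟨⟨H.coreMap, gw, gs, D, D'.recoord g, hsw, hws, hphi, hg⟩, rfl⟩

theorem exists_pair : ∃ s, IsConj z s ∧ Nonempty (Pair z s Qf) := by
  obtain ⟨D⟩ := H.data
  obtain ⟨g, hg, hne⟩ := H.witness
  set s := g * z * g⁻¹
  have hss : s * s = 1 := (H.goodAt g).x_sq
  have h0 : D.phi s ≠ 0 := fun h =>
    ((D.phi_eq_zero s hg).1 h).elim (H.goodAt g).x_ne hne
  obtain ⟨g', hg'⟩ := witt_one h0 ((D.sq_iff s hg).1 hss)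
  obtain ⟨P, -⟩ := H.pair_aux (IsConj.refl z) (isConj_iff.2 ⟨g, rfl⟩) (D.recoord g') hg hg'
  exact ⟨s, isConj_iff.2 ⟨g, rfl⟩, ⟨P⟩⟩

/-- The involutions of every `O₂(C(w))` are conjugates of `z`. -/
theorem isConj_of_mem {w x : G} (hw : IsConj z w) (hx : x ∈ Qf w) (hxx : x * x = 1) (hx1 : x ≠ 1) :
    IsConj z x := by
  obtain ⟨g, rfl⟩ := isConj_iff.1 hw
  obtain ⟨s, hs, ⟨P⟩⟩ := H.exists_pair
  have hy := (H.mem_conj_iff g x).1 hx
  have hyy : g⁻¹ * x * g * (g⁻¹ * x * g) = 1 := by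
    calc _ = g⁻¹ * (x * x) * g := by group
      _ = 1 := by rw [hxx]; group
  have hy1 : g⁻¹ * x * g ≠ 1 := fun e => hx1 (by
    calc x = g * (g⁻¹ * x * g) * g⁻¹ := by group
      _ = 1 := by rw [e]; group)
  have hxy : IsConj (g⁻¹ * x * g) x := isConj_iff.2 ⟨g, by group⟩
  by_cases hyz : g⁻¹ * x * g = z
  · rwa [hyz] at hxy
  · exact (hs.trans (P.isConj_of_mem hy hyy hy1 hyz).symm).trans hxy

theorem pair_of {w s : G} (hw : IsConj z w) (D : Data w (Qf w)) (hsw : s ∈ Qf w)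
    (hphi : D.phi s = e₀) : IsConj z s ∧ ∃ P : Pair w s Qf, P.D = D := by
  have gw := H.good_of hw
  have hs1 : s ≠ 1 := fun e => e₀_ne (by rw [← hphi, e, D.phi_one gw])
  have hs : IsConj z s :=
    H.isConj_of_mem hw hsw ((D.sq_iff s hsw).2 (by rw [hphi, qV_e₀])) hs1
  exact ⟨hs, H.pair_aux hw hs D hsw hphi⟩

end Hyp

namespace Pair

variable {s : G} (P : Pair z s Qf)
include P

/-- `C(z)` is transitive on the second centres. -/
theorem exists_conj_to {x : G} (hx : x ∈ Qf z) (hxx : x * x = 1) (hx1 : x ≠ 1) (hxz : x ≠ z) :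
    ∃ c, c * z = z * c ∧ c * x * c⁻¹ = s := by
  set u := P.D.phi x
  have hu0 : u ≠ 0 := fun h => ((P.D.phi_eq_zero x hx).1 h).elim hx1 hxz
  obtain ⟨c, hc, hce⟩ := P.D.exists_map P.gz (n := 1) ![u] ![e₀]
    (linearIndependent_unique_iff.2 (by simpa using hu0))
    (linearIndependent_unique_iff.2 (by simpa using e₀_ne))
    (fun i => by fin_cases i; simp [(P.D.sq_iff x hx).1 hxx, qV_e₀, u])
    (fun i j => by fin_cases i; fin_cases j; simp [bV_self])
    (emb u₁) (by decide) (fun i => by fin_cases i; simp; decide)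
  have h1 : P.D.phi (c * x * c⁻¹) = e₀ := by
    rw [P.D.act_phi c hc x hx]; simpa using hce 0
  rcases P.D.eq_or_of_phi_eq P.gz (P.gz.norm c hc x hx) P.s_mem (h1.trans P.phi_s.symm) with e | e
  · exact ⟨c, hc, e⟩
  · obtain ⟨m, hm, hmf⟩ := P.D.phi_surj f₀
    have hmz := P.gz.le_cent m hm
    refine ⟨m * c, (Commute.mul_left hmz hc :), ?_⟩
    have hms : m * s * m⁻¹ = s * z := by
      rw [P.D.conj_eq P.gz P.s_mem hm, hmf, P.phi_s]; rfl
    calc m * c * x * (m * c)⁻¹ = m * (c * x * c⁻¹) * m⁻¹ := by group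
      _ = (m * s * m⁻¹) * (m * z * m⁻¹) := by rw [e]; group
      _ = s := by rw [hms, hmz, mul_inv_cancel_right, mul_assoc, P.zz, mul_one]

end Pair

end Cfsg.Agent.Lib.Co1Type47
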