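import Cfsg.Agent.Lib.Co1Type47.Reduce

/-!
Three types of involutions: conjugates of `z` and the two types of pairs.
-/

set_option autoImplicit false

namespace Cfsg.Agent.Lib.Co1Type47

open LargeExtra

variable {G : Type*} [Group G] {z : G} {Qf : G → Subgroup G}

namespace Pair

variable {s : G} (P : Pair z s Qf)
include P

/-- Each type occurs, as an involution. -/
theorem exists_typed (ε : ZMod 2) : ∃ x, P.Typed ε x ∧ x * x = 1 ∧ x ≠ 1 := by
  obtain ⟨r1, r2, r3, r4, r5, r6, -⟩ := rep_facts ε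
  obtain ⟨q, hq, hqv⟩ := P.D.phi_surj (emb (repV ε))
  have hqs : q * s = s * q := (P.commute_s hq).2 (by rw [hqv]; rfl)
  have hv : P.wPart q = repV ε := by rw [wPart, hqv]; rfl
  have hb := P.lift_mem (repA ε)
  have hbz := P.lift_comm (repA ε)
  have ha := P.alpha_lift (repA ε)
  refine ⟨P.lift (repA ε) * q, ⟨_, q, hb, hbz, hq, hqs, rfl, by rwa [ha], by rwa [hv],
    by rw [ha, hv]; exact r3, by rwa [ha], by rwa [hv], by rwa [ha, hv]⟩, ?_, fun e => r1 ?_⟩
  · rw [P.sq_parts hb hbz hq hqs, ha, hv, r4, r5, bW_comm, r6,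
      (by decide : ∀ r : ZMod 2, r + r = 0), bpow_zero, bpow_zero, one_mul]
  · have : P.lift (repA ε) ∈ Qf z := by
      rw [eq_inv_of_mul_eq_one_left e]
      exact inv_mem hq
    rw [← ha, alpha, P.D.act_of_mem P.gz this]
    rfl

end Pair

namespace Hyp

variable [Finite G] (H : Hyp z Qf)
include H

/-- The three types exhaust the involutions. -/
theorem three_types {s : G} (P : Pair z s Qf) {x : G} (hxx : x * x = 1) (hx1 : x ≠ 1) :
    IsConj x z ∨ ∃ ε y, P.Typed ε y ∧ IsConj x y := by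
  obtain ⟨g, hg⟩ := H.into_cent x hxx
  have hxx' : g * x * g⁻¹ * (g * x * g⁻¹) = 1 := by
    calc _ = g * (x * x) * g⁻¹ := by group
      _ = 1 := by rw [hxx]; group
  have hx1' : g * x * g⁻¹ ≠ 1 := fun e => hx1 (by
    calc x = g⁻¹ * (g * x * g⁻¹) * g := by group
      _ = 1 := by rw [e]; group)
  obtain ⟨y, hxy, h⟩ :=
    (H.reduce_at (IsConj.refl z) hg hxx' hx1').of_conj (isConj_iff.2 ⟨g, rfl⟩)
  rcases h with h | ⟨w, t, P', b, q, hw, hb, hbw, hq, hqt, rfl⟩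
  · exact Or.inl (hxy.trans h.symm)
  -- move `(w, t)` to `(z, s)`
  obtain ⟨k, hk⟩ := isConj_iff.1 hw.symm
  have hkt : k * t * k⁻¹ ∈ Qf z := hk ▸ H.coreMap.conj_mem k P'.s_mem
  have htt : k * t * k⁻¹ * (k * t * k⁻¹) = 1 := by
    calc _ = k * (t * t) * k⁻¹ := by group
      _ = 1 := by rw [P'.ss]; group
  have ht1 : k * t * k⁻¹ ≠ 1 := fun e => P'.gs.x_ne (by
    calc t = k⁻¹ * (k * t * k⁻¹) * k := by group
      _ = 1 := by rw [e]; group)
  have htz : k * t * k⁻¹ ≠ z := fun e => P'.z_ne_s (by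
    calc w = k⁻¹ * (k * w * k⁻¹) * k := by group
      _ = k⁻¹ * (k * t * k⁻¹) * k := by rw [hk, e]
      _ = t := by group)
  obtain ⟨c, hc, hct⟩ := P.exists_conj_to hkt htt ht1 htz
  have hcw : c * k * w * (c * k)⁻¹ = z := by
    calc c * k * w * (c * k)⁻¹ = c * (k * w * k⁻¹) * c⁻¹ := by group
      _ = z := by rw [hk, hc, mul_inv_cancel_right]
  have hct' : c * k * t * (c * k)⁻¹ = s := by
    rw [← hct]; group
  obtain ⟨h, hh⟩ : ∃ h, h = c * k := ⟨_, rfl⟩
  rw [← hh] at hcw hct'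
  have hb' : h * b * h⁻¹ ∈ Qf s := hct' ▸ H.coreMap.conj_mem h hb
  have hq' : h * q * h⁻¹ ∈ Qf z := hcw ▸ H.coreMap.conj_mem h hq
  have hbz : h * b * h⁻¹ * z = z * (h * b * h⁻¹) := by
    calc h * b * h⁻¹ * z = h * b * h⁻¹ * (h * w * h⁻¹) := by rw [hcw]
      _ = h * (b * w) * h⁻¹ := by group
      _ = (h * w * h⁻¹) * (h * b * h⁻¹) := by rw [hbw]; group
      _ = _ := by rw [hcw]
  have hqs : h * q * h⁻¹ * s = s * (h * q * h⁻¹) := by
    calc h * q * h⁻¹ * s = h * q * h⁻¹ * (h * t * h⁻¹) := by rw [hct']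
      _ = h * (q * t) * h⁻¹ := by group
      _ = (h * t * h⁻¹) * (h * q * h⁻¹) := by rw [hqt]; group
      _ = _ := by rw [hct']
  obtain ⟨u, hu⟩ : ∃ u, u = h * (b * q) * h⁻¹ := ⟨_, rfl⟩
  have hxu : IsConj x u := hxy.trans (isConj_iff.2 ⟨h, hu.symm⟩)
  obtain ⟨m, hm⟩ := isConj_iff.1 hxu
  have huu : u * u = 1 := by
    rw [← hm]
    calc m * x * m⁻¹ * (m * x * m⁻¹) = m * (x * x) * m⁻¹ := by group
      _ = 1 := by rw [hxx]; group
  have hu1 : u ≠ 1 := fun e => hx1 (by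
    calc x = m⁻¹ * (m * x * m⁻¹) * m := by group
      _ = 1 := by rw [hm, e]; group)
  have hzs : IsConj z s := H.isConj_of_mem (IsConj.refl z) P.s_mem P.ss P.gs.x_ne
  rcases P.classify hb' hbz hq' hqs (x := u) (by rw [hu]; group) huu with e | e | e | ⟨ε, e⟩
  · exact Or.inl (hxu.trans (H.isConj_of_mem (IsConj.refl z) e huu hu1).symm)
  · exact Or.inl (hxu.trans (H.isConj_of_mem hzs e huu hu1).symm)
  · have hsz1 : s * z ≠ 1 := fun e => P.z_ne_s.symm (by
      calc s = s * (z * z) := by rw [P.zz, mul_one]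
        _ = s * z * z := (mul_assoc _ _ _).symm
        _ = z := by rw [e, one_mul])
    have hzsz : IsConj z (s * z) :=
      H.isConj_of_mem (IsConj.refl z) (mul_mem P.s_mem P.gz.x_mem) P.sz_sq hsz1
    exact Or.inl (hxu.trans (H.isConj_of_mem hzsz e huu hu1).symm)
  · exact Or.inr ⟨ε, u, e, hxu⟩

end Hyp

end Cfsg.Agent.Lib.Co1Type47
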