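import Mathlib
import Cfsg.Agent.Lib.Forms.Witt

/-!
The plus-type quadratic space of dimension eight over two elements as `F₂ × F₂ × W`, with
`W` three hyperbolic planes: reflections, the Siegel maps of the point `e₀`, Witt's theorem for
families.
-/

set_option autoImplicit false

namespace Cfsg.Agent.Lib.Co1Type47

abbrev H2 : Type := ZMod 2 × ZMod 2
abbrev W6 : Type := H2 × H2 × H2
abbrev V8 : Type := ZMod 2 × ZMod 2 × W6

/-- The form on a hyperbolic plane and on `W6`, with polar forms. -/
def qH (a : H2) : ZMod 2 := a.1 * a.2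
def bH (a b : H2) : ZMod 2 := a.1 * b.2 + a.2 * b.1
def qW (a : W6) : ZMod 2 := qH a.1 + qH a.2.1 + qH a.2.2
def bW (a b : W6) : ZMod 2 := bH a.1 b.1 + bH a.2.1 b.2.1 + bH a.2.2 b.2.2

/-- The form on `V8`, with polar form. -/
def qV (v : V8) : ZMod 2 := v.1 * v.2.1 + qW v.2.2
def bV (u v : V8) : ZMod 2 := u.1 * v.2.1 + u.2.1 * v.1 + bW u.2.2 v.2.2

theorem zmod_cases (a : ZMod 2) : a = 0 ∨ a = 1 := by revert a; decide

theorem ne_zero_iff {a : ZMod 2} : a ≠ 0 ↔ a = 1 := by revert a; decide

theorem add_self (v : V8) : v + v = 0 := by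
  rw [← two_smul (ZMod 2) v]
  exact (by decide : (2 : ZMod 2) = 0) ▸ zero_smul _ v

theorem add_self_w (v : W6) : v + v = 0 := by
  rw [← two_smul (ZMod 2) v]
  exact (by decide : (2 : ZMod 2) = 0) ▸ zero_smul _ v

theorem neg_eq (v : V8) : -v = v := neg_eq_of_add_eq_zero_left (add_self v)

theorem add_eq_zero {u v : V8} : u + v = 0 ↔ u = v :=
  ⟨fun h => by rw [add_eq_zero_iff_eq_neg, neg_eq] at h; exact h, fun h => h ▸ add_self u⟩

theorem bV_add_left (u u' v : V8) : bV (u + u') v = bV u v + bV u' v := by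
  simp only [bV, bW, bH, Prod.fst_add, Prod.snd_add]; ring

theorem bV_add_right (u v v' : V8) : bV u (v + v') = bV u v + bV u v' := by
  simp only [bV, bW, bH, Prod.fst_add, Prod.snd_add]; ring

theorem bV_comm (u v : V8) : bV u v = bV v u := by simp only [bV, bW, bH]; ring

theorem bW_comm (u v : W6) : bW u v = bW v u := by simp only [bW, bH]; ring

theorem bW_add_left (u u' v : W6) : bW (u + u') v = bW u v + bW u' v := by
  simp only [bW, bH, Prod.fst_add, Prod.snd_add]; ring

theorem bW_add_right (u v v' : W6) : bW u (v + v') = bW u v + bW u v' := by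
  rw [bW_comm, bW_add_left, bW_comm v, bW_comm v']

theorem qV_add (u v : V8) : qV (u + v) = qV u + qV v + bV u v := by
  simp only [qV, bV, qW, qH, bW, bH, Prod.fst_add, Prod.snd_add]; ring

theorem qW_add (u v : W6) : qW (u + v) = qW u + qW v + bW u v := by
  simp only [qW, qH, bW, bH, Prod.fst_add, Prod.snd_add]; ring

theorem qV_zero : qV 0 = 0 := by decide

theorem bV_self (v : V8) : bV v v = 0 := by
  have : ∀ a b : ZMod 2, a * b + b * a = 0 := by decide
  simp only [bV, bW, bH, this, add_zero]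

theorem bV_zero_left (v : V8) : bV 0 v = 0 := by simp [bV, bW, bH]

theorem bV_zero_right (v : V8) : bV v 0 = 0 := by simp [bV, bW, bH]

theorem bW_nondeg (u : W6) (h : ∀ v, bW u v = 0) : u = 0 := by
  obtain ⟨⟨a, b⟩, ⟨c, d⟩, ⟨e, f⟩⟩ := u
  have h1 := h ((0, 1), (0, 0), (0, 0))
  have h2 := h ((1, 0), (0, 0), (0, 0))
  have h3 := h ((0, 0), (0, 1), (0, 0))
  have h4 := h ((0, 0), (1, 0), (0, 0))
  have h5 := h ((0, 0), (0, 0), (0, 1))
  have h6 := h ((0, 0), (0, 0), (1, 0))
  simp [bW, bH] at h1 h2 h3 h4 h5 h6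
  simp [h1, h2, h3, h4, h5, h6]

theorem bV_nondeg (u : V8) (h : ∀ v, bV u v = 0) : u = 0 := by
  have h1 := h (0, 1, 0)
  have h2 := h (1, 0, 0)
  have h3 : u.2.2 = 0 := bW_nondeg _ fun w => by simpa [bV] using h (0, 0, w)
  simp [bV, bW, bH] at h1 h2
  exact Prod.ext h1 (Prod.ext h2 h3)

/-! ### Distinguished vectors -/

def e₀ : V8 := (1, 0, 0)
def f₀ : V8 := (0, 1, 0)
/-- The embedding of `W6` into `e₀^⊥`. -/
def emb (w : W6) : V8 := (0, 0, w)

theorem bV_e₀ (v : V8) : bV e₀ v = v.2.1 := by simp [bV, e₀, bW, bH]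
theorem qV_e₀ : qV e₀ = 0 := by decide
theorem e₀_ne : e₀ ≠ 0 := by decide

/-- The transvection of a nonsingular vector. -/
def refl (v x : V8) : V8 := x + (if bV v x = 0 then 0 else v)

theorem refl_of_orth {v x : V8} (h : bV v x = 0) : refl v x = x := by simp [refl, h]

theorem refl_refl (v : V8) (x : V8) : refl v (refl v x) = x := by
  rcases zmod_cases (bV v x) with h | h
  · rw [refl_of_orth h, refl_of_orth h]
  · have h' : bV v (x + v) = 1 := by rw [bV_add_right, bV_self, h, add_zero]
    simp [refl, h, h', add_assoc, add_self]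

theorem refl_iso {v : V8} (hv : qV v = 1) (x : V8) : qV (refl v x) = qV x := by
  rcases zmod_cases (bV v x) with h | h
  · rw [refl_of_orth h]
  · simp only [refl, h, one_ne_zero, if_false]
    rw [qV_add, hv, bV_comm, h, add_assoc, (by decide : (1 : ZMod 2) + 1 = 0), add_zero]

theorem refl_add (v x y : V8) : refl v (x + y) = refl v x + refl v y := by
  simp only [refl, bV_add_right]
  rcases zmod_cases (bV v x) with h | h <;> rcases zmod_cases (bV v y) with h' | h' <;>
    simp only [h, h', add_zero, zero_add, one_ne_zero, if_false, if_true,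
      (by decide : (1 : ZMod 2) + 1 = 0)]
  · abel
  · abel
  · calc x + y = x + y + (v + v) := by rw [add_self, add_zero]
      _ = _ := by abel

/-- The Siegel map of `e₀` and `a`. -/
def siegel (a : W6) (v : V8) : V8 :=
  (v.1 + bW v.2.2 a + v.2.1 * qW a, v.2.1, v.2.2 + v.2.1 • a)

theorem siegel_e₀ (a : W6) : siegel a e₀ = e₀ := by simp [siegel, e₀, bW, bH]

theorem siegel_zero (v : V8) : siegel 0 v = v := by
  simp [siegel, bW, bH, qW, qH]

theorem siegel_orth (a : W6) {v : V8} (h : v.2.1 = 0) :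
    siegel a v = v + (bW v.2.2 a, 0, 0) := by
  simp [siegel, h, Prod.ext_iff]

theorem siegel_siegel (a b : W6) (v : V8) : siegel a (siegel b v) = siegel (a + b) v := by
  simp only [siegel, bW_add_left, bW_add_right, qW_add, Prod.mk.injEq, true_and]
  refine ⟨?_, by rw [smul_add]; abel⟩
  rcases zmod_cases v.2.1 with h | h <;> rw [h] <;>
    simp [bW_comm b a] <;> first | (simp [bW, bH]; ring) | ring

theorem siegel_iso (a : W6) (v : V8) : qV (siegel a v) = qV v := by
  have h2 : ∀ x : ZMod 2, x + x = 0 := by decide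
  simp only [qV, siegel, qW_add]
  rcases zmod_cases v.2.1 with h | h <;> rw [h]
  · simp [qW, qH, bW, bH]
  · simp only [one_smul, mul_one]
    calc v.1 + bW v.2.2 a + 1 * qW a + (qW v.2.2 + qW a + bW v.2.2 a)
        = (v.1 + qW v.2.2) + ((bW v.2.2 a + bW v.2.2 a) + (qW a + qW a)) := by ring
      _ = v.1 + qW v.2.2 := by rw [h2, h2, add_zero, add_zero]

/-! ### Witt's theorem -/

/-- A bilinear form with `qV` on the diagonal. -/
def halfBil : LinearMap.BilinMap (ZMod 2) V8 (ZMod 2) :=
  LinearMap.mk₂ (ZMod 2)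
    (fun u v => u.1 * v.2.1 + u.2.2.1.1 * v.2.2.1.2 + u.2.2.2.1.1 * v.2.2.2.1.2
      + u.2.2.2.2.1 * v.2.2.2.2.2)
    (fun a b c => by simp only [Prod.fst_add, Prod.snd_add]; ring)
    (fun t a c => by simp only [Prod.smul_fst, Prod.smul_snd, smul_eq_mul]; ring)
    (fun a b c => by simp only [Prod.fst_add, Prod.snd_add]; ring)
    (fun t a c => by simp only [Prod.smul_fst, Prod.smul_snd, smul_eq_mul]; ring)

/-- `qV` bundled. -/
def quad : QuadraticForm (ZMod 2) V8 := halfBil.toQuadraticMap

theorem quad_apply (v : V8) : quad v = qV v := by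
  simp [quad, halfBil, qV, qW, qH]; ring

theorem quad_polar (u v : V8) : QuadraticMap.polar quad u v = bV u v := by
  rw [QuadraticMap.polar, quad_apply, quad_apply, quad_apply, qV_add]; ring

theorem quad_nondeg : LinearMap.Nondegenerate (QuadraticMap.polarBilin quad) := by
  refine ⟨fun u hu => bV_nondeg u fun v => ?_, fun u hu => bV_nondeg u fun v => ?_⟩
  · rw [← quad_polar, ← QuadraticMap.polarBilin_apply_apply]; exact hu v
  · rw [bV_comm, ← quad_polar, ← QuadraticMap.polarBilin_apply_apply]; exact hu v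

/-- An isometry of `V8`. -/
structure Iso where
  map : V8 ≃+ V8
  iso : ∀ v, qV (map v) = qV v

theorem Iso.bil (g : Iso) (u v : V8) : bV (g.map u) (g.map v) = bV u v := by
  have h := g.iso (u + v)
  rw [g.map.map_add, qV_add, qV_add, g.iso, g.iso] at h
  exact add_left_cancel h

/-- Witt's theorem for families. -/
theorem witt {n : ℕ} (v w : Fin n → V8) (hv : LinearIndependent (ZMod 2) v)
    (hw : LinearIndependent (ZMod 2) w) (hq : ∀ i, qV (v i) = qV (w i))
    (hb : ∀ i j, bV (v i) (v j) = bV (w i) (w j)) : ∃ g : Iso, ∀ i, g.map (v i) = w i := by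
  obtain ⟨g, hg, hgv⟩ := Forms.witt_family_quad (Q := quad) quad_nondeg v w hv hw
    (fun i => by rw [quad_apply, quad_apply]; exact hq i)
    (fun i j => by rw [quad_polar, quad_polar]; exact hb i j)
  exact ⟨⟨g.toAddEquiv, fun x => by rw [← quad_apply, ← quad_apply]; exact hg x⟩, hgv⟩

/-- A transvection as an isometry. -/
def reflIso (v : V8) (hv : qV v = 1) : Iso where
  map := {
    toFun := refl v
    invFun := refl v
    left_inv := refl_refl v
    right_inv := refl_refl v
    map_add' := refl_add v }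
  iso := refl_iso hv

theorem reflIso_apply (v : V8) (hv : qV v = 1) (x : V8) : (reflIso v hv).map x = refl v x := rfl

def Iso.comp (g h : Iso) : Iso where
  map := h.map.trans g.map
  iso v := by rw [AddEquiv.trans_apply, g.iso, h.iso]

def Iso.inv (g : Iso) : Iso where
  map := g.map.symm
  iso v := by conv_rhs => rw [← g.map.apply_symm_apply v, g.iso]

end Cfsg.Agent.Lib.Co1Type47
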