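import Cfsg.Agent.Lib.Co1Type47.Pair

/-!
Squares and commutators in `(O₂(C(z)) ∩ C(s)) (O₂(C(s)) ∩ C(z))`.
-/

set_option autoImplicit false

namespace Cfsg.Agent.Lib.Co1Type47

open LargeExtra

def w₁ : W6 := ((1, 0), (0, 0), (0, 0))
def w₂ : W6 := ((0, 0), (1, 0), (0, 0))
def w₃ : W6 := ((0, 0), (0, 0), (1, 0))
def u₁ : W6 := ((1, 1), (0, 0), (0, 0))
def u₂ : W6 := ((0, 0), (1, 1), (0, 0))
def u₃ : W6 := ((0, 0), (0, 0), (1, 1))
def g₁ : W6 := ((0, 1), (0, 0), (0, 0))

theorem six_decomp (w : W6) : w = w.1.1 • w₁ + w.1.2 • g₁ + w.2.1.1 • w₂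
    + w.2.1.2 • (((0, 0), (0, 1), (0, 0)) : W6) + w.2.2.1 • w₃
    + w.2.2.2 • (((0, 0), (0, 0), (0, 1)) : W6) := by
  simp [w₁, w₂, w₃, g₁, Prod.ext_iff]

theorem qW_triple (x y t : W6) : qW (x + y + t) + qW (x + y) + qW (x + t) + qW (y + t)
    + qW x + qW y + qW t = 0 := by
  have h2 : ∀ r : ZMod 2, r + r = 0 := by decide
  simp only [qW_add, bW_add_left]
  calc _ = (qW x + qW x) + (qW x + qW x) + (qW y + qW y) + (qW y + qW y) + (qW t + qW t)
        + (qW t + qW t) + (bW x y + bW x y) + (bW x t + bW x t) + (bW y t + bW y t) := by ring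
    _ = 0 := by simp only [h2, add_zero]

theorem map_zero_of_add {f : W6 → W6} (h : ∀ x y, f (x + y) = f x + f y) : f 0 = 0 := by
  have := h 0 0
  rw [add_zero] at this
  exact left_eq_add.1 this

namespace Pair

variable {G : Type*} [Group G] {z s : G} {Qf : G → Subgroup G} (P : Pair z s Qf)
include P

theorem inP_symm {d : G} (h : InP z s d) : InP s z d := by
  rcases h with h | h | h | h
  · exact Or.inl h
  · exact Or.inr (Or.inr (Or.inl h))
  · exact Or.inr (Or.inl h)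
  · exact Or.inr (Or.inr (Or.inr (h.trans P.comm)))

theorem alpha_one : P.alpha 1 = 0 := by
  simp [alpha, P.D.act_one P.gz, f₀]

theorem alpha_inv {b : G} (hb : b ∈ Qf s) (hbz : b * z = z * b) : P.alpha b⁻¹ = P.alpha b := by
  have h := P.alpha_mul hb hbz (inv_mem hb) (Commute.inv_left hbz :)
  rw [mul_inv_cancel, P.alpha_one] at h
  exact ((add_eq_zero_iff_eq_neg.1 h.symm).trans
    (neg_eq_of_add_eq_zero_left (add_self_w _))).symm

theorem alpha_eq_zero {b : G} (h : InP z s b) : P.alpha b = 0 := by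
  have hb : b ∈ Qf z := by
    rcases h with rfl | rfl | rfl | rfl
    exacts [one_mem _, P.gz.x_mem, P.s_mem, mul_mem P.s_mem P.gz.x_mem]
  simp [alpha, P.D.act_of_mem P.gz hb, f₀]

/-- The other centre's coordinate of `b`. -/
def beta (b : G) : W6 := (P.D'.phi b).2.2

theorem phi'_orth {b : G} (hb : b ∈ Qf s) (hbz : b * z = z * b) : (P.D'.phi b).2.1 = 0 :=
  (P.swap.commute_s hb).1 hbz

theorem qV_phi' {b : G} (hb : b ∈ Qf s) (hbz : b * z = z * b) :
    qV (P.D'.phi b) = qW (P.beta b) := by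
  simp [qV, beta, P.phi'_orth hb hbz]

theorem beta_eq_zero {b : G} (h : InP z s b) : P.beta b = 0 := by
  rcases P.inP_symm h with rfl | rfl | rfl | rfl
  · simp [beta, P.D'.phi_one P.gs]
  · simp [beta, P.D'.phi_z P.gs]
  · simp [beta, P.phi'_z, e₀]
  · have : P.D'.phi (z * s) = e₀ := P.swap.phi_sz
    simp [beta, this, e₀]

theorem beta_mul {b b' : G} (hb : b ∈ Qf s) (hb' : b' ∈ Qf s) :
    P.beta (b * b') = P.beta b + P.beta b' := by
  simp [beta, P.D'.phi_mul b hb b' hb']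

theorem beta_eq_of_alpha_eq {b b' : G} (hb : b ∈ Qf s) (hbz : b * z = z * b) (hb' : b' ∈ Qf s)
    (hbz' : b' * z = z * b') (h : P.alpha b = P.alpha b') : P.beta b = P.beta b' := by
  have hi : b⁻¹ * z = z * b⁻¹ := (Commute.inv_left hbz :)
  have h0 : P.alpha (b⁻¹ * b') = 0 := by
    rw [P.alpha_mul (inv_mem hb) hi hb' hbz', P.alpha_inv hb hbz, h, add_self_w]
  have h1 := P.beta_eq_zero (P.mem_of_alpha_eq_zero (mul_mem (inv_mem hb) hb')
    ((Commute.mul_left hi hbz') :) h0)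
  have h2 := P.beta_mul hb (mul_mem (inv_mem hb) hb')
  rw [mul_inv_cancel_left, h1, add_zero] at h2
  exact h2.symm

/-- The Siegel parameters fill `W6`. -/
theorem exists_alpha (a : W6) : ∃ b, b ∈ Qf s ∧ b * z = z * b ∧ P.alpha b = a := by
  have hmove : ∀ a a' : W6, a ≠ 0 → a' ≠ 0 → qW a = qW a' →
      (∃ b, b ∈ Qf s ∧ b * z = z * b ∧ P.alpha b = a) →
      ∃ b, b ∈ Qf s ∧ b * z = z * b ∧ P.alpha b = a' := by
    rintro a a' ha ha' hq ⟨b, hb, hbz, hba⟩
    obtain ⟨x, hx, hxa⟩ := exists_orth_nonsingular a'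
    obtain ⟨c, hcz, hcs, -, hc⟩ := P.exists_map ![a] ![a'] (indep_pair ha) (indep_pair ha')
      (fun i => by fin_cases i; simpa using hq)
      (fun i j => by
        fin_cases i; fin_cases j
        have : ∀ w : W6, bW w w = 0 := fun w => by
          have := bV_self (emb w); simpa [bV, emb] using this
        simp [this])
      x hx (fun i => by fin_cases i; simpa using hxa)
    refine ⟨c * b * c⁻¹, P.gs.norm c hcs b hb,
      ((Commute.mul_left (Commute.mul_left hcz hbz) (Commute.inv_left hcz)) :), ?_⟩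
    have := hc 0
    simp only [Matrix.cons_val_fin_one] at this
    rw [P.alpha_conj hb hbz hcz hcs, hba, this]
    rfl
  have hmul : ∀ a a' : W6, (∃ b, b ∈ Qf s ∧ b * z = z * b ∧ P.alpha b = a) →
      (∃ b, b ∈ Qf s ∧ b * z = z * b ∧ P.alpha b = a') →
      ∃ b, b ∈ Qf s ∧ b * z = z * b ∧ P.alpha b = a + a' := by
    rintro a a' ⟨b, hb, hbz, rfl⟩ ⟨b', hb', hbz', rfl⟩
    exact ⟨b * b', mul_mem hb hb', ((Commute.mul_left hbz hbz') :), P.alpha_mul hb hbz hb' hbz'⟩
  obtain ⟨b₀, hb₀, hb₀'⟩ := P.D'.phi_surj (emb w₁)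
  have hb₀z : b₀ * z = z * b₀ := (P.swap.commute_s hb₀).2 (by
    show (P.D'.phi b₀).2.1 = 0
    rw [hb₀']; rfl)
  have hne : P.alpha b₀ ≠ 0 := fun h => by
    have := P.beta_eq_zero (P.mem_of_alpha_eq_zero hb₀ hb₀z h)
    rw [beta, hb₀'] at this
    revert this; decide
  have hstart : ∃ b, b ∈ Qf s ∧ b * z = z * b ∧ P.alpha b = P.alpha b₀ := ⟨b₀, hb₀, hb₀z, rfl⟩
  have hsing : ∀ a : W6, qW a = 0 → ∃ b, b ∈ Qf s ∧ b * z = z * b ∧ P.alpha b = a := by
    intro a ha
    rcases eq_or_ne a 0 with rfl | ha0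
    · exact ⟨1, one_mem _, by rw [one_mul, mul_one], P.alpha_one⟩
    rcases zmod_cases (qW (P.alpha b₀)) with h | h
    · exact hmove _ a hne ha0 (h.trans ha.symm) hstart
    · have h1 := hmove _ u₁ hne (by decide) (h.trans (by decide)) hstart
      have h2 := hmove _ u₂ hne (by decide) (h.trans (by decide)) hstart
      exact hmove _ a (by decide) ha0 ((show qW (u₁ + u₂) = 0 by decide).trans ha.symm)
        (hmul _ _ h1 h2)
  rcases zmod_cases (qW a) with ha | ha
  · exact hsing a ha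
  · have h1 : ∃ b, b ∈ Qf s ∧ b * z = z * b ∧ P.alpha b = u₁ := by
      have := hmul _ _ (hsing w₁ (by decide)) (hsing g₁ (by decide))
      rwa [show w₁ + g₁ = u₁ by decide] at this
    exact hmove _ a (by decide) (by rintro rfl; exact absurd ha (by decide))
      ((show qW u₁ = 1 by decide).trans ha.symm) h1

/-- A representative with parameter `a`. -/
noncomputable def lift (a : W6) : G := (P.exists_alpha a).choose

theorem lift_mem (a : W6) : P.lift a ∈ Qf s := (P.exists_alpha a).choose_spec.1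

theorem lift_comm (a : W6) : P.lift a * z = z * P.lift a := (P.exists_alpha a).choose_spec.2.1

theorem alpha_lift (a : W6) : P.alpha (P.lift a) = a := (P.exists_alpha a).choose_spec.2.2

/-- The parameter read in the other coordinates. -/
noncomputable def Fmap (a : W6) : W6 := P.beta (P.lift a)

theorem beta_eq {b : G} (hb : b ∈ Qf s) (hbz : b * z = z * b) : P.beta b = P.Fmap (P.alpha b) :=
  P.beta_eq_of_alpha_eq hb hbz (P.lift_mem _) (P.lift_comm _) (P.alpha_lift _).symm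

theorem Fmap_add (a a' : W6) : P.Fmap (a + a') = P.Fmap a + P.Fmap a' := by
  have h := P.beta_eq (mul_mem (P.lift_mem a) (P.lift_mem a'))
    ((Commute.mul_left (P.lift_comm a) (P.lift_comm a')) :)
  rw [P.alpha_mul (P.lift_mem a) (P.lift_comm a) (P.lift_mem a') (P.lift_comm a'), P.alpha_lift,
    P.alpha_lift, P.beta_mul (P.lift_mem a) (P.lift_mem a')] at h
  exact h.symm

theorem Fmap_injective : Function.Injective P.Fmap := by
  intro a a' h
  have h1 : P.Fmap (a + a') = 0 := by rw [P.Fmap_add, h, add_self_w]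
  set b := P.lift (a + a') with hb
  have h2 : P.D'.phi b = 0 ∨ P.D'.phi b = e₀ := by
    have ho := P.phi'_orth (P.lift_mem (a + a')) (P.lift_comm (a + a'))
    rcases zmod_cases (P.D'.phi b).1 with hc | hc
    · exact Or.inl (Prod.ext hc (Prod.ext ho h1))
    · exact Or.inr (Prod.ext hc (Prod.ext ho h1))
  have h3 := P.swap.inP_symm ((P.swap.inP_iff (P.lift_mem (a + a'))).2 h2)
  have h4 := P.alpha_eq_zero h3
  rw [P.alpha_lift] at h4
  exact (add_eq_zero_iff_eq_neg.1 h4).trans (neg_eq_of_add_eq_zero_left (add_self_w a'))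

theorem Fmap_surjective : Function.Surjective P.Fmap :=
  Finite.surjective_of_injective P.Fmap_injective

theorem Fmap_qW_move {a a' : W6} (ha : a ≠ 0) (ha' : a' ≠ 0) (hq : qW a = qW a') :
    qW (P.Fmap a) = qW (P.Fmap a') := by
  obtain ⟨x, hx, hxa⟩ := exists_orth_nonsingular a'
  obtain ⟨c, hcz, hcs, -, hc⟩ := P.exists_map ![a] ![a'] (indep_pair ha) (indep_pair ha')
    (fun i => by fin_cases i; simpa using hq)
    (fun i j => by
      fin_cases i; fin_cases j
      have : ∀ w : W6, bW w w = 0 := fun w => by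
        have := bV_self (emb w); simpa [bV, emb] using this
      simp [this])
    x hx (fun i => by fin_cases i; simpa using hxa)
  have hb := P.lift_mem a
  have hbz := P.lift_comm a
  have hb' := P.gs.norm c hcs _ hb
  have hbz' : c * P.lift a * c⁻¹ * z = z * (c * P.lift a * c⁻¹) :=
    ((Commute.mul_left (Commute.mul_left hcz hbz) (Commute.inv_left hcz)) :)
  have := hc 0
  simp only [Matrix.cons_val_fin_one] at this
  have hal : P.alpha (c * P.lift a * c⁻¹) = a' := by
    rw [P.alpha_conj hb hbz hcz hcs, P.alpha_lift, this]; rfl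
  have h1 := P.D'.act_iso c hcs (P.D'.phi (P.lift a))
  rw [← P.D'.act_phi c hcs _ hb, P.qV_phi' hb' hbz', P.qV_phi' hb hbz, P.beta_eq hb' hbz', hal] at h1
  exact h1.symm

/-- The parameter map is an isometry. -/
theorem qW_Fmap (a : W6) : qW (P.Fmap a) = qW a := by
  have h0 : P.Fmap 0 = 0 := by
    have := P.Fmap_add 0 0
    rw [add_zero] at this
    exact left_eq_add.1 this
  rcases eq_or_ne a 0 with rfl | ha
  · rw [h0]
  have hs : ∀ b : W6, b ≠ 0 → qW b = 0 → qW (P.Fmap b) = 0 := by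
    intro b hb hqb
    have key : ∀ c : W6, c ≠ 0 → qW c = 0 → qW (P.Fmap c) = qW (P.Fmap b) :=
      fun c hc hqc => P.Fmap_qW_move hc hb (hqc.trans hqb.symm)
    have h7 := qW_triple (P.Fmap w₁) (P.Fmap w₂) (P.Fmap w₃)
    simp only [← P.Fmap_add] at h7
    rw [key (w₁ + w₂ + w₃) (by decide) (by decide), key (w₁ + w₂) (by decide) (by decide),
      key (w₁ + w₃) (by decide) (by decide), key (w₂ + w₃) (by decide) (by decide),
      key w₁ (by decide) (by decide), key w₂ (by decide) (by decide),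
      key w₃ (by decide) (by decide)] at h7
    exact (by decide : ∀ r : ZMod 2, r + r + r + r + r + r + r = 0 → r = 0) _ h7
  rcases zmod_cases (qW a) with hq | hq
  · rw [hq]; exact hs a ha hq
  · rw [hq]
    by_contra hne
    have h1 : qW (P.Fmap a) = 0 := (zmod_cases _).resolve_right hne
    obtain ⟨y, hy⟩ := P.Fmap_surjective u₁
    have hy1 : qW (P.Fmap y) = 0 := by
      rcases eq_or_ne y 0 with rfl | hy0
      · rw [h0]; rfl
      · rcases zmod_cases (qW y) with hqy | hqy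
        · exact hs y hy0 hqy
        · exact (P.Fmap_qW_move hy0 ha (hqy.trans hq.symm)).trans h1
    rw [hy] at hy1
    exact absurd hy1 (by decide)

theorem bW_Fmap (a a' : W6) : bW (P.Fmap a) (P.Fmap a') = bW a a' := by
  have h := P.qW_Fmap (a + a')
  rw [P.Fmap_add, qW_add, qW_add, P.qW_Fmap, P.qW_Fmap] at h
  exact add_left_cancel h

theorem sq_B {b : G} (hb : b ∈ Qf s) (hbz : b * z = z * b) :
    b * b = bpow s (qW (P.alpha b)) := by
  rw [P.D'.sq_eq P.gs hb, P.qV_phi' hb hbz, P.beta_eq hb hbz, P.qW_Fmap]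

theorem conj_B {b b' : G} (hb : b ∈ Qf s) (hbz : b * z = z * b) (hb' : b' ∈ Qf s)
    (hbz' : b' * z = z * b') :
    b' * b * b'⁻¹ = b * bpow s (bW (P.alpha b') (P.alpha b)) := by
  rw [P.D'.conj_eq P.gs hb hb']
  congr 2
  have e : bV (P.D'.phi b') (P.D'.phi b) = bW (P.beta b') (P.beta b) := by
    simp [bV, beta, P.phi'_orth hb hbz, P.phi'_orth hb' hbz']
  rw [e, P.beta_eq hb hbz, P.beta_eq hb' hbz', P.bW_Fmap]

/-- `O₂(C(z))`-coordinate modulo `e₀`. -/
def wPart (q : G) : W6 := (P.D.phi q).2.2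

theorem swap_beta (q : G) : P.swap.beta q = P.wPart q := rfl

theorem inP_elim {d : G} (h : InP z s d) :
    ∃ i j : ZMod 2, d = bpow s i * bpow z j := by
  rcases h with rfl | rfl | rfl | rfl
  · exact ⟨0, 0, by simp [bpow]⟩
  · exact ⟨0, 1, by simp [bpow]⟩
  · exact ⟨1, 0, by simp [bpow]⟩
  · exact ⟨1, 1, by simp [bpow]⟩

theorem phi_bpow (i j : ZMod 2) : P.D.phi (bpow s i * bpow z j) = (i, 0, 0) := by
  rcases zmod_cases i with rfl | rfl <;> rcases zmod_cases j with rfl | rfl <;>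
    simp [bpow, P.D.phi_one P.gz, P.D.phi_z P.gz, P.phi_s, P.phi_sz, e₀] <;> rfl

/-- The commutator of the two halves, in terms of both parameter maps. -/
theorem comm_raw {b q : G} (hb : b ∈ Qf s) (hbz : b * z = z * b) (hq : q ∈ Qf z)
    (hqs : q * s = s * q) :
    b * q * b⁻¹ * q⁻¹ =
      bpow s (bW (P.wPart q) (P.alpha b)) * bpow z (bW (P.beta b) (P.swap.alpha q)) := by
  have h1 : b * q * b⁻¹ * q⁻¹ ∈ Qf z := mul_mem (P.gz.norm b hbz q hq) (inv_mem hq)
  have h2 : b * q * b⁻¹ * q⁻¹ ∈ Qf s := by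
    have h := mul_mem hb (P.gs.norm q hqs _ (inv_mem hb))
    simpa [mul_assoc] using h
  obtain ⟨i, j, hij⟩ := P.inP_elim (P.inP_of_both h1 h2)
  have hi : i = bW (P.wPart q) (P.alpha b) := by
    have h := congrArg (fun d => (P.D.phi d).1) hij
    simp only [P.phi_bpow] at h
    rw [P.D.phi_mul _ (P.gz.norm b hbz q hq) _ (inv_mem hq), P.D.act_phi b hbz q hq,
      P.D.phi_inv P.gz hq, P.act_eq hb hbz, siegel_orth _ ((P.commute_s hq).1 hqs)] at h
    simp only [Prod.fst_add] at h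
    rw [← h, wPart]
    exact (by decide : ∀ x y : ZMod 2, x + y + x = y) _ _
  have hj : j = bW (P.beta b) (P.swap.alpha q) := by
    have hq' : b * q * b⁻¹ * q⁻¹ = (q * b * q⁻¹ * b⁻¹)⁻¹ := by group
    have h := congrArg (fun d => (P.D'.phi d).1) hij
    have e : bpow s i * bpow z j = bpow z j * bpow s i := by
      rcases zmod_cases i with rfl | rfl <;> rcases zmod_cases j with rfl | rfl <;>
        simp [bpow, P.comm]
    simp only [e] at h
    rw [show P.D'.phi (bpow z j * bpow s i) = (j, 0, 0) from P.swap.phi_bpow j i, hq',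
      P.D'.phi_inv P.gs (mul_mem (P.gs.norm q hqs b hb) (inv_mem hb)),
      P.D'.phi_mul _ (P.gs.norm q hqs b hb) _ (inv_mem hb), P.D'.act_phi q hqs b hb,
      P.D'.phi_inv P.gs hb, show P.D'.act q (P.D'.phi b) = siegel (P.swap.alpha q) (P.D'.phi b)
        from P.swap.act_eq hq hqs _, siegel_orth _ (P.phi'_orth hb hbz)] at h
    simp only [Prod.fst_add] at h
    rw [← h, beta]
    exact (by decide : ∀ x y : ZMod 2, x + y + x = y) _ _
  rw [hij, hi, hj]

/-- The composite of the two parameter maps. -/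
noncomputable def Kmap (a : W6) : W6 := P.swap.Fmap (P.Fmap a)

theorem beta_swap_alpha {b q : G} (hb : b ∈ Qf s) (hbz : b * z = z * b) (hq : q ∈ Qf z)
    (hqs : q * s = s * q) :
    bW (P.beta b) (P.swap.alpha q) = bW (P.Kmap (P.alpha b)) (P.wPart q) := by
  rw [Kmap, ← P.swap_beta, P.swap.beta_eq hq hqs, P.swap.bW_Fmap, P.beta_eq hb hbz]

theorem bW_Kmap_self (a : W6) : bW (P.Kmap a) a = 0 := by
  set b := P.lift a
  have hb := P.lift_mem a
  have hbz := P.lift_comm a
  have hal := P.alpha_lift a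
  obtain ⟨m, hm, hmf⟩ := P.D.phi_surj f₀
  have hmz : m * z = z * m := P.gz.le_cent m hm
  set d := b * m * b⁻¹ * m⁻¹ with hd
  have hdm : d ∈ Qf z := mul_mem (P.gz.norm b hbz m hm) (inv_mem hm)
  have hdphi : P.D.phi d = (qW a, 0, a) := by
    rw [hd, P.D.phi_mul _ (P.gz.norm b hbz m hm) _ (inv_mem hm), P.D.act_phi b hbz m hm,
      P.D.phi_inv P.gz hm, P.act_eq hb hbz, hmf, hal]
    have : (1 : ZMod 2) + 1 = 0 := by decide
    simp [siegel, f₀, bW, bH, this]
  have hds : d * s = s * d := (P.commute_s hdm).2 (by rw [hdphi])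
  have hdi : d⁻¹ * s = s * d⁻¹ := (Commute.inv_left hds :)
  have hc := P.comm_raw hb hbz (inv_mem hdm) hdi
  rw [P.beta_swap_alpha hb hbz (inv_mem hdm) hdi] at hc
  have hw : P.wPart d⁻¹ = a := by rw [wPart, P.D.phi_inv P.gz hdm, hdphi]
  rw [hw, hal, show bW a a = 0 by simpa [bV, emb] using bV_self (emb a), bpow_zero, one_mul] at hc
  have hsq : b * b = bpow s (qW a) := by rw [P.sq_B hb hbz, hal]
  have hdsq : d * d = bpow z (qW a) := by
    rw [P.D.sq_eq P.gz hdm, hdphi]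
    simp [qV]
  have hms : m * bpow s (qW a) * m⁻¹ = bpow s (qW a) * bpow z (qW a) := by
    rcases zmod_cases (qW a) with h | h <;> rw [h]
    · simp [bpow]
    · rw [bpow_one, bpow_one, P.D.conj_eq P.gz P.s_mem hm, hmf, P.phi_s]; rfl
  set c := bW (P.Kmap a) a with hcdef
  have hzd : bpow z c * d⁻¹ = d⁻¹ * bpow z c := by
    rcases bpow_cases z c with e | e <;> rw [e]
    · group
    · exact (P.gz.le_cent _ (inv_mem hdm)).symm
  have key : bpow z (qW a) * bpow z c * bpow s (qW a) = bpow s (qW a) * bpow z (qW a) := by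
    have e1 : m * b * m⁻¹ = d⁻¹ * b := by rw [hd]; group
    have e2 : m * (b * b) * m⁻¹ = (d⁻¹ * b) * (d⁻¹ * b) := by rw [← e1]; group
    have e3 : (d⁻¹ * b) * (d⁻¹ * b) = d⁻¹ * ((b * d⁻¹ * b⁻¹ * d⁻¹⁻¹) * d⁻¹) * (b * b) := by group
    rw [e3, hc, hsq, hms, hzd, ← mul_assoc] at e2
    have e4 : d⁻¹ * d⁻¹ = bpow z (qW a) := by
      rw [← mul_inv_rev, hdsq]
      rcases bpow_cases z (qW a) with e | e <;> rw [e]
      · rw [inv_one]
      · exact inv_eq_of_mul_eq_one_right P.zz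
    rw [e4] at e2
    exact e2.symm
  have hsz : bpow s (qW a) * bpow z (qW a) = bpow z (qW a) * bpow s (qW a) := by
    rcases bpow_cases s (qW a) with e | e <;> rcases bpow_cases z (qW a) with e' | e' <;>
      rw [e, e'] <;> first | group | exact P.comm
  rw [hsz] at key
  have : bpow z c = 1 := mul_eq_left.1 (mul_right_cancel key)
  exact (bpow_eq_one P.gz.x_ne).1 this

theorem comm_conj_fix {c d : G} (hcz : c * z = z * c) (hcs : c * s = s * c) (hd : InP z s d) :
    c * d * c⁻¹ = d := by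
  rcases hd with rfl | rfl | rfl | rfl
  · group
  · exact conj_eq_iff_comm.2 hcz
  · exact conj_eq_iff_comm.2 hcs
  · exact conj_eq_iff_comm.2 ((Commute.mul_right hcs hcz) :)

theorem Kmap_w₁ : P.Kmap w₁ = w₁ := by
  have hadd : P.Kmap w₁ = P.swap.Fmap (P.Fmap w₁) := rfl
  have hq : qW (P.Kmap w₁) = 0 := by rw [hadd, P.swap.qW_Fmap, P.qW_Fmap]; decide
  have hb := P.bW_Kmap_self w₁
  by_contra hne
  set k := P.Kmap w₁ with hk
  have hk0 : k ≠ 0 := by
    intro h
    have h0 : P.Fmap 0 = 0 := map_zero_of_add P.Fmap_add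
    have h0' : P.swap.Fmap 0 = 0 := map_zero_of_add P.swap.Fmap_add
    have := P.Fmap_injective (P.swap.Fmap_injective
      (show P.swap.Fmap (P.Fmap w₁) = P.swap.Fmap (P.Fmap 0) by rw [h0, h0']; exact h))
    exact absurd this (by decide)
  obtain ⟨k', hk', hkk, hk'0, hq', hb', x, hx, hx1, hxk⟩ :
      ∃ k' : W6, k' ≠ k ∧ k' ≠ w₁ ∧ k' ≠ 0 ∧ qW k' = 0 ∧ bW k' w₁ = 0 ∧
        ∃ x : W6, qW x = 1 ∧ bW x w₁ = 0 ∧ bW x k' = 0 := by
    rcases eq_or_ne k w₂ with h | h
    · exact ⟨w₃, by rw [h]; decide, by decide, by decide, by decide, by decide,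
        u₂, by decide, by decide, by decide⟩
    · exact ⟨w₂, h.symm, by decide, by decide, by decide, by decide,
        u₃, by decide, by decide, by decide⟩
  have hbb : ∀ w : W6, bW w w = 0 := fun w => by simpa [bV, emb] using bV_self (emb w)
  obtain ⟨c, hcz, hcs, hce, hc⟩ := P.exists_map ![w₁, k] ![w₁, k']
    (indep_triple (by decide) hk0 (Ne.symm hne)) (indep_triple (by decide) hk'0 hkk.symm)
    (fun i => by fin_cases i <;> simp [hq, hq'])
    (fun i j => by
      fin_cases i <;> fin_cases j <;>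
        simp [hbb, bW_comm w₁, hb, hb'])
    x hx (fun i => by fin_cases i <;> simp [hx1, hxk])
  have hc1 := hc 0
  have hc2 := hc 1
  simp at hc1 hc2
  apply hk'
  refine ((add_eq_zero_iff_eq_neg.1 (bW_nondeg _ fun w => ?_)).trans
    (neg_eq_of_add_eq_zero_left (add_self_w k)))
  -- choose a preimage of `emb w`
  have hci : c⁻¹ * z = z * c⁻¹ := (Commute.inv_left hcz :)
  set u := P.D.act c⁻¹ (emb w) with hu
  have hcu : P.D.act c u = emb w := by
    rw [hu, ← P.D.act_mul P.gz hcz hci, mul_inv_cancel, P.D.act_one P.gz]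
  have hu2 : u.2.1 = 0 := by
    rw [← bV_e₀, ← P.D.act_bil P.gz hcz, hce, hcu, bV_e₀]; rfl
  obtain ⟨q, hq1, hq2⟩ := P.D.phi_surj u
  have hqs : q * s = s * q := (P.commute_s hq1).2 (by rw [hq2, hu2])
  have hl := P.lift_mem w₁
  have hlz := P.lift_comm w₁
  have h0 := P.comm_raw hl hlz hq1 hqs
  rw [P.beta_swap_alpha hl hlz hq1 hqs, P.alpha_lift, ← hk] at h0
  have hb1 := P.gs.norm c hcs _ hl
  have hb1z : c * P.lift w₁ * c⁻¹ * z = z * (c * P.lift w₁ * c⁻¹) :=
    ((Commute.mul_left (Commute.mul_left hcz hlz) (Commute.inv_left hcz)) :)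
  have hq3 := P.gz.norm c hcz q hq1
  have hq3s : c * q * c⁻¹ * s = s * (c * q * c⁻¹) :=
    ((Commute.mul_left (Commute.mul_left hcs hqs) (Commute.inv_left hcs)) :)
  have h1 := P.comm_raw hb1 hb1z hq3 hq3s
  rw [P.beta_swap_alpha hb1 hb1z hq3 hq3s, P.alpha_conj hl hlz hcz hcs, P.alpha_lift, hc1] at h1
  have hw : P.wPart (c * q * c⁻¹) = w := by
    rw [wPart, P.D.act_phi c hcz q hq1, hq2, hcu]; rfl
  rw [hw, show (emb w₁).2.2 = w₁ from rfl, ← hk] at h1
  have hfix : InP z s (P.lift w₁ * q * (P.lift w₁)⁻¹ * q⁻¹) := by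
    refine P.inP_of_both (mul_mem (P.gz.norm _ hlz q hq1) (inv_mem hq1)) ?_
    have h := mul_mem hl (P.gs.norm q hqs _ (inv_mem hl))
    simpa [mul_assoc] using h
  have h2 := P.comm_conj_fix hcz hcs hfix
  have h3 : c * (P.lift w₁ * q * (P.lift w₁)⁻¹ * q⁻¹) * c⁻¹ = c * P.lift w₁ * c⁻¹ *
      (c * q * c⁻¹) * (c * P.lift w₁ * c⁻¹)⁻¹ * (c * q * c⁻¹)⁻¹ := by group
  rw [h2, h0, h1] at h3
  have h4 := congrArg (fun d => (P.D'.phi d).1) h3
  have e : ∀ i j, bpow s i * bpow z j = bpow z j * bpow s i := by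
    intro i j
    rcases zmod_cases i with rfl | rfl <;> rcases zmod_cases j with rfl | rfl <;>
      simp [bpow, P.comm]
  simp only [e] at h4
  rw [show ∀ i j, P.D'.phi (bpow z j * bpow s i) = (j, 0, 0) from fun i j => P.swap.phi_bpow j i,
    show ∀ i j, P.D'.phi (bpow z j * bpow s i) = (j, 0, 0) from fun i j => P.swap.phi_bpow j i] at h4
  simp only at h4
  have h5 : bW k u.2.2 = bW k' w := by
    have h6 := P.D.act_bil P.gz hcz (emb k) u
    rw [hc2, hcu] at h6
    simpa [bV, emb, hu2] using h6.symm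
  rw [wPart, hq2, h5] at h4
  rw [bW_add_left, h4]
  exact (by decide : ∀ r : ZMod 2, r + r = 0) _

theorem Kmap_singular (a : W6) (hqa : qW a = 0) : P.Kmap a = a := by
  have hadd : ∀ x y, P.Kmap (x + y) = P.Kmap x + P.Kmap y := fun x y => by
    simp only [Kmap, P.Fmap_add, P.swap.Fmap_add]
  have h00 : P.Kmap 0 = 0 := map_zero_of_add hadd
  rcases eq_or_ne a 0 with rfl | ha
  · exact h00
  obtain ⟨x, hx, hxa⟩ := exists_orth_nonsingular a
  obtain ⟨c, hcz, hcs, hce, hc⟩ := P.exists_map ![w₁] ![a] (indep_pair (by decide)) (indep_pair ha)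
    (fun i => by fin_cases i; simp [hqa]; decide)
    (fun i j => by
      fin_cases i; fin_cases j
      have : ∀ w : W6, bW w w = 0 := fun w => by simpa [bV, emb] using bV_self (emb w)
      simp [this])
    x hx (fun i => by fin_cases i; simpa using hxa)
  have hc1 := hc 0
  simp at hc1
  refine ((add_eq_zero_iff_eq_neg.1 (bW_nondeg _ fun w => ?_)).trans
    (neg_eq_of_add_eq_zero_left (add_self_w a)))
  have hci : c⁻¹ * z = z * c⁻¹ := (Commute.inv_left hcz :)
  set u := P.D.act c⁻¹ (emb w) with hu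
  have hcu : P.D.act c u = emb w := by
    rw [hu, ← P.D.act_mul P.gz hcz hci, mul_inv_cancel, P.D.act_one P.gz]
  have hu2 : u.2.1 = 0 := by
    rw [← bV_e₀, ← P.D.act_bil P.gz hcz, hce, hcu, bV_e₀]; rfl
  obtain ⟨q, hq1, hq2⟩ := P.D.phi_surj u
  have hqs : q * s = s * q := (P.commute_s hq1).2 (by rw [hq2, hu2])
  have hl := P.lift_mem w₁
  have hlz := P.lift_comm w₁
  have h0 := P.comm_raw hl hlz hq1 hqs
  rw [P.beta_swap_alpha hl hlz hq1 hqs, P.alpha_lift, P.Kmap_w₁] at h0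
  have hb1 := P.gs.norm c hcs _ hl
  have hb1z : c * P.lift w₁ * c⁻¹ * z = z * (c * P.lift w₁ * c⁻¹) :=
    ((Commute.mul_left (Commute.mul_left hcz hlz) (Commute.inv_left hcz)) :)
  have hq3 := P.gz.norm c hcz q hq1
  have hq3s : c * q * c⁻¹ * s = s * (c * q * c⁻¹) :=
    ((Commute.mul_left (Commute.mul_left hcs hqs) (Commute.inv_left hcs)) :)
  have h1 := P.comm_raw hb1 hb1z hq3 hq3s
  rw [P.beta_swap_alpha hb1 hb1z hq3 hq3s, P.alpha_conj hl hlz hcz hcs, P.alpha_lift, hc1] at h1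
  have hw : P.wPart (c * q * c⁻¹) = w := by
    rw [wPart, P.D.act_phi c hcz q hq1, hq2, hcu]; rfl
  rw [hw, show (emb a).2.2 = a from rfl] at h1
  have hfix : InP z s (P.lift w₁ * q * (P.lift w₁)⁻¹ * q⁻¹) := by
    refine P.inP_of_both (mul_mem (P.gz.norm _ hlz q hq1) (inv_mem hq1)) ?_
    have h := mul_mem hl (P.gs.norm q hqs _ (inv_mem hl))
    simpa [mul_assoc] using h
  have h2 := P.comm_conj_fix hcz hcs hfix
  have h3 : c * (P.lift w₁ * q * (P.lift w₁)⁻¹ * q⁻¹) * c⁻¹ = c * P.lift w₁ * c⁻¹ *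
      (c * q * c⁻¹) * (c * P.lift w₁ * c⁻¹)⁻¹ * (c * q * c⁻¹)⁻¹ := by group
  rw [h2, h0, h1] at h3
  have h4 := congrArg (fun d => (P.D'.phi d).1) h3
  have e : ∀ i j, bpow s i * bpow z j = bpow z j * bpow s i := by
    intro i j
    rcases zmod_cases i with rfl | rfl <;> rcases zmod_cases j with rfl | rfl <;>
      simp [bpow, P.comm]
  simp only [e] at h4
  rw [show ∀ i j, P.D'.phi (bpow z j * bpow s i) = (j, 0, 0) from fun i j => P.swap.phi_bpow j i,
    show ∀ i j, P.D'.phi (bpow z j * bpow s i) = (j, 0, 0) from fun i j => P.swap.phi_bpow j i] at h4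
  simp only at h4
  have h5 : bW w₁ u.2.2 = bW a w := by
    have h6 := P.D.act_bil P.gz hcz (emb w₁) u
    rw [hc1, hcu] at h6
    simpa [bV, emb, hu2] using h6.symm
  rw [wPart, hq2, h5] at h4
  rw [bW_add_left, h4]
  exact (by decide : ∀ r : ZMod 2, r + r = 0) _

theorem Kmap_eq (a : W6) : P.Kmap a = a := by
  have hadd : ∀ x y, P.Kmap (x + y) = P.Kmap x + P.Kmap y := fun x y => by
    simp only [Kmap, P.Fmap_add, P.swap.Fmap_add]
  have h00 : P.Kmap 0 = 0 := map_zero_of_add hadd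
  have hsm : ∀ (r : ZMod 2) (u : W6), qW u = 0 → P.Kmap (r • u) = r • u := by
    intro r u hu
    rcases zmod_cases r with rfl | rfl <;> simp [h00, P.Kmap_singular u hu]
  conv_lhs => rw [six_decomp a]
  rw [hadd, hadd, hadd, hadd, hadd, hsm _ _ (by decide), hsm _ _ (by decide), hsm _ _ (by decide),
    hsm _ _ (by decide), hsm _ _ (by decide), hsm _ _ (by decide), ← six_decomp]

/-- The commutator of the two halves lies on the third point. -/
theorem comm_BQ {b q : G} (hb : b ∈ Qf s) (hbz : b * z = z * b) (hq : q ∈ Qf z)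
    (hqs : q * s = s * q) :
    b * q * b⁻¹ = q * bpow (s * z) (bW (P.wPart q) (P.alpha b)) := by
  have h := P.comm_raw hb hbz hq hqs
  rw [P.beta_swap_alpha hb hbz hq hqs, P.Kmap_eq, bW_comm (P.alpha b)] at h
  rw [mul_inv_eq_iff_eq_mul] at h
  rw [h]
  rcases zmod_cases (bW (P.wPart q) (P.alpha b)) with e | e <;> rw [e]
  · simp [bpow]
  · simp only [bpow_one]
    exact ((Commute.mul_left hqs.symm (P.gz.le_cent q hq).symm) :)

end Pair

end Cfsg.Agent.Lib.Co1Type47
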