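import Cfsg.Agent.Lib.LargeExtra.Setting
import Cfsg.Agent.Lib.Co1Type47.Coord

/-!
Groups with an involution centralizer `2^{1+8}.Ω⁺₈(2)`: the coordinates at a centre, their
transport along conjugation and isometries, and transitivity on tuples.
-/

set_option autoImplicit false

namespace Cfsg.Agent.Lib.Co1Type47

open LargeExtra

variable {G : Type*} [Group G]

/-- Coordinates at the centre `z`: `phi` on `R = O₂(C(z))`, `act` on `C(z)`. The image of `act`
has index two among the isometries and contains no transvection. -/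
structure Data (z : G) (R : Subgroup G) where
  card : Nat.card R = 512
  phi : G → V8
  phi_mul : ∀ a ∈ R, ∀ b ∈ R, phi (a * b) = phi a + phi b
  phi_surj : ∀ v, ∃ a ∈ R, phi a = v
  phi_eq_zero : ∀ a ∈ R, phi a = 0 ↔ a = 1 ∨ a = z
  sq_iff : ∀ a ∈ R, a * a = 1 ↔ qV (phi a) = 0
  comm_iff : ∀ a ∈ R, ∀ b ∈ R, a * b = b * a ↔ bV (phi a) (phi b) = 0
  act : G → V8 → V8
  act_phi : ∀ c, c * z = z * c → ∀ a ∈ R, phi (c * a * c⁻¹) = act c (phi a)
  act_eq_id : ∀ c, c * z = z * c → (∀ v, act c v = v) → c ∈ R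
  act_iso : ∀ c, c * z = z * c → ∀ v, qV (act c v) = qV v
  exists_act : ∀ (g : Iso) (v : V8), qV v = 1 →
    (∃ c, c * z = z * c ∧ ∀ x, act c x = g.map x) ∨
      (∃ c, c * z = z * c ∧ ∀ x, act c x = g.map (refl v x))
  act_ne_refl : ∀ c, c * z = z * c → ∀ v, qV v = 1 → ¬ ∀ x, act c x = refl v x

/-- The hypotheses on a group of Conway type. -/
structure Hyp (z : G) (Qf : G → Subgroup G) : Prop where
  coreMap : IsCoreMap Qf
  good : Good (Qf z) z
  data : Nonempty (Data z (Qf z))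
  witness : ∃ g : G, g * z * g⁻¹ ∈ Qf z ∧ g * z * g⁻¹ ≠ z
  into_cent : ∀ x : G, x * x = 1 → ∃ g : G, (g * x * g⁻¹) * z = z * (g * x * g⁻¹)

end Cfsg.Agent.Lib.Co1Type47
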