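import Cfsg.Agent.Lib.Co1Type47.Formulas

/-!
The involutions of `X = (O₂(C(z)) ∩ C(s)) (O₂(C(s)) ∩ C(z))`: those in one of the three cores, and
two classes of pairs.
-/

set_option autoImplicit false

namespace Cfsg.Agent.Lib.Co1Type47

open LargeExtra

/-- The representative pairs: a singular line, or an anisotropic line. -/
def repA (ε : ZMod 2) : W6 := if ε = 0 then w₁ else u₁
def repV (ε : ZMod 2) : W6 := if ε = 0 then w₂ else ((1, 0), (1, 1), (0, 0))

theorem rep_facts : ∀ ε : ZMod 2, repA ε ≠ 0 ∧ repV ε ≠ 0 ∧ repA ε ≠ repV ε ∧ qW (repA ε) = ε ∧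
    qW (repV ε) = ε ∧ bW (repA ε) (repV ε) = ε ∧ qW u₃ = 1 ∧ bW u₃ (repA ε) = 0 ∧
    bW u₃ (repV ε) = 0 := by decide

theorem rep_dual : ∀ ε i j : ZMod 2, ∃ a : W6, bW a (repV ε) = j ∧ bW a (repA ε) = i + j := by
  decide +kernel

namespace Pair

variable {G : Type*} [Group G] {z s : G} {Qf : G → Subgroup G} (P : Pair z s Qf)

/-- A pair of type `ε`. -/
structure Parts (ε : ZMod 2) (x b q : G) : Prop where
  hb : b ∈ Qf s
  hbz : b * z = z * b
  hq : q ∈ Qf z
  hqs : q * s = s * q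
  eq : x = b * q
  a_ne : P.alpha b ≠ 0
  v_ne : P.wPart q ≠ 0
  ne : P.alpha b ≠ P.wPart q
  qa : qW (P.alpha b) = ε
  qv : qW (P.wPart q) = ε
  av : bW (P.alpha b) (P.wPart q) = ε

/-- Involutions of `X` whose pair spans a singular (`ε = 0`) or anisotropic (`ε = 1`) line. -/
def Typed (ε : ZMod 2) (x : G) : Prop := ∃ b q, P.Parts ε x b q

include P

theorem z_mem_sz : z * (s * z) = (s * z) * z := by rw [← mul_assoc, ← P.comm]

theorem bpow_sz (i : ZMod 2) : bpow (s * z) i = bpow s i * bpow z i := by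
  rcases zmod_cases i with rfl | rfl <;> simp [bpow]

theorem bpow_comm (i j : ZMod 2) : bpow s i * bpow z j = bpow z j * bpow s i := by
  rcases zmod_cases i with rfl | rfl <;> rcases zmod_cases j with rfl | rfl <;>
    simp [bpow, P.comm]

theorem bpow_split {i j i' j' : ZMod 2} (h : bpow s i * bpow z j = bpow s i' * bpow z j') :
    i = i' ∧ j = j' := by
  have h1 := congrArg P.D.phi h
  rw [P.phi_bpow, P.phi_bpow] at h1
  obtain rfl : i = i' := congrArg (fun v : V8 => v.1) h1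
  exact ⟨rfl, bpow_inj P.gz.x_ne (mul_left_cancel h)⟩

/-- An element of `C(z, s)` commutes with `⟨z, s⟩`. -/
theorem commute_bpow {c : G} (hcz : c * z = z * c) (hcs : c * s = s * c) (i j : ZMod 2) :
    Commute c (bpow s i * bpow z j) := by
  rcases zmod_cases i with rfl | rfl <;> rcases zmod_cases j with rfl | rfl <;> simp only [bpow]
  all_goals simp only [one_ne_zero, if_true, if_false, one_mul, mul_one]
  exacts [Commute.one_right c, hcz, hcs, Commute.mul_right hcs hcz]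

theorem parts_commute {b q : G} (hb : b ∈ Qf s) (hbz : b * z = z * b) (hq : q ∈ Qf z)
    (hqs : q * s = s * q) : (b * q) * z = z * (b * q) ∧ (b * q) * s = s * (b * q) :=
  ⟨(Commute.mul_left hbz (P.gz.le_cent q hq) :), (Commute.mul_left (P.gs.le_cent b hb) hqs :)⟩

theorem sq_parts {b q : G} (hb : b ∈ Qf s) (hbz : b * z = z * b) (hq : q ∈ Qf z)
    (hqs : q * s = s * q) : (b * q) * (b * q) =
      bpow s (qW (P.alpha b) + bW (P.wPart q) (P.alpha b)) *
        bpow z (qW (P.wPart q) + bW (P.wPart q) (P.alpha b)) := by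
  set k := bW (P.wPart q) (P.alpha b)
  have h := P.comm_BQ hb hbz hq hqs
  have hcb := P.commute_bpow hbz (P.gs.le_cent b hb) k k
  have hcq := P.commute_bpow (P.gz.le_cent q hq) hqs k k
  rw [P.bpow_sz] at h
  set σ := bpow s k * bpow z k
  have hσ : σ * σ = 1 := by
    show bpow s k * bpow z k * (bpow s k * bpow z k) = 1
    rw [← P.bpow_sz]
    rcases bpow_cases (s * z) k with e | e <;> rw [e]
    · rw [mul_one]
    · exact P.sz_sq
  have hqq : q * q = bpow z (qW (P.wPart q)) := by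
    rw [P.D.sq_eq P.gz hq]
    simp [qV, wPart, (P.commute_s hq).1 hqs]
  have e1 : b * q = q * σ * b := by rw [← h]; group
  have e2 : q * b = b * q * σ := by
    rw [e1, mul_assoc (q * σ), hcb.eq, ← mul_assoc, mul_assoc q σ σ, hσ, mul_one]
  calc b * q * (b * q) = b * (q * b) * q := by group
    _ = (b * b) * (q * q) * σ := by
      rw [e2, show b * (b * q * σ) * q = b * b * q * (σ * q) by group, ← hcq.eq]
      group
    _ = _ := by
      rw [P.sq_B hb hbz, hqq, ← bpow_mul P.ss, ← bpow_mul P.zz]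
      show bpow s _ * bpow z _ * (bpow s k * bpow z k) = _
      rw [mul_assoc, mul_assoc, ← mul_assoc (bpow z _) (bpow s k), ← P.bpow_comm k, mul_assoc]

/-- An involution of `C(z, s)` inducing a Siegel map of `e₀` lies in `X`. -/
theorem exists_parts {x : G} (hxz : x * z = z * x) (hxs : x * s = s * x) {a : W6}
    (h : ∀ v, P.D.act x v = siegel a v) :
    ∃ b q, b ∈ Qf s ∧ b * z = z * b ∧ q ∈ Qf z ∧ q * s = s * q ∧ x = b * q := by
  have hi : (P.lift a)⁻¹ * z = z * (P.lift a)⁻¹ := (Commute.inv_left (P.lift_comm a) :)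
  refine ⟨P.lift a, (P.lift a)⁻¹ * x, P.lift_mem a, P.lift_comm a, ?_, ?_, by group⟩
  · refine P.D.act_eq_id _ ((Commute.mul_left hi hxz) :) fun v => ?_
    rw [P.D.act_mul P.gz hi hxz, h, ← P.alpha_lift a, ← P.act_eq (P.lift_mem a) (P.lift_comm a),
      P.alpha_lift, P.D.act_inv_act P.gz (P.lift_comm a)]
  · exact (Commute.mul_left (Commute.inv_left (P.gs.le_cent _ (P.lift_mem a))) hxs :)

theorem inP_mem_sz {d : G} (hd : InP z s d) : d ∈ Qf (s * z) := by
  obtain ⟨m, hm, hmf⟩ := P.D.phi_surj f₀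
  have hms : m * s * m⁻¹ = s * z := by
    rw [P.D.conj_eq P.gz P.s_mem hm, hmf, P.phi_s]; rfl
  have hz' : z ∈ Qf (s * z) := by
    have h := P.core.conj_mem m P.z_mem
    rwa [hms, conj_eq_iff_comm.2 (P.gz.le_cent m hm)] at h
  have hsz : s * z ∈ Qf (s * z) := by
    have h := P.core.conj_mem m P.gs.x_mem
    rwa [hms] at h
  have hs' : s ∈ Qf (s * z) := by simpa [mul_assoc, P.zz] using mul_mem hsz hz'
  rcases hd with rfl | rfl | rfl | rfl
  exacts [one_mem _, hz', hs', hsz]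

/-- The involutions of `X`. -/
theorem classify {x b q : G} (hb : b ∈ Qf s) (hbz : b * z = z * b) (hq : q ∈ Qf z)
    (hqs : q * s = s * q) (hx : x = b * q) (hxx : x * x = 1) :
    x ∈ Qf z ∨ x ∈ Qf s ∨ x ∈ Qf (s * z) ∨ ∃ ε, P.Typed ε x := by
  rcases eq_or_ne (P.alpha b) 0 with ha | ha
  · left
    have hb' := P.mem_of_alpha_eq_zero hb hbz ha
    have : b ∈ Qf z := by
      rcases hb' with rfl | rfl | rfl | rfl
      exacts [one_mem _, P.gz.x_mem, P.s_mem, mul_mem P.s_mem P.gz.x_mem]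
    exact hx ▸ mul_mem this hq
  have hq2 := (P.commute_s hq).1 hqs
  rcases eq_or_ne (P.wPart q) 0 with hv | hv
  · right; left
    have hq' : InP z s q := (P.inP_iff hq).2 (by
      rcases zmod_cases (P.D.phi q).1 with h | h
      · exact Or.inl (Prod.ext h (Prod.ext hq2 hv))
      · exact Or.inr (Prod.ext h (Prod.ext hq2 hv)))
    have : q ∈ Qf s := by
      rcases hq' with rfl | rfl | rfl | rfl
      exacts [one_mem _, P.z_mem, P.gs.x_mem, mul_mem P.gs.x_mem P.z_mem]
    exact hx ▸ mul_mem hb this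
  rcases eq_or_ne (P.alpha b) (P.wPart q) with he | he
  · right; right; left
    obtain ⟨m, hm, hmf⟩ := P.D.phi_surj f₀
    have hmz := P.gz.le_cent m hm
    set d := b * m * b⁻¹ * m⁻¹ with hd
    have hdm : d ∈ Qf z := mul_mem (P.gz.norm b hbz m hm) (inv_mem hm)
    have hdphi : P.D.phi d = (qW (P.alpha b), 0, P.alpha b) := by
      rw [hd, P.D.phi_mul _ (P.gz.norm b hbz m hm) _ (inv_mem hm), P.D.act_phi b hbz m hm,
        P.D.phi_inv P.gz hm, P.act_eq hb hbz, hmf]
      simp [siegel, f₀, bW, bH, (by decide : (1 : ZMod 2) + 1 = 0)]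
    have hdi : d⁻¹ * s = s * d⁻¹ :=
      (Commute.inv_left ((P.commute_s hdm).2 (by rw [hdphi])) :)
    have hms : m * s * m⁻¹ = s * z := by
      rw [P.D.conj_eq P.gz P.s_mem hm, hmf, P.phi_s]; rfl
    have h1 : d⁻¹ * b ∈ Qf (s * z) := by
      have h := P.core.conj_mem m hb
      rwa [hms, show m * b * m⁻¹ = d⁻¹ * b by rw [hd]; group] at h
    have hp : InP z s (d * q) := by
      refine (P.inP_iff (mul_mem hdm hq)).2 ?_
      rw [P.D.phi_mul d hdm q hq, hdphi]
      have h3 : P.D.phi q = ((P.D.phi q).1, 0, P.alpha b) :=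
        Prod.ext rfl (Prod.ext hq2 he.symm)
      rw [h3]
      rcases zmod_cases (qW (P.alpha b) + (P.D.phi q).1) with h | h
      · exact Or.inl (by simp [h, add_self_w])
      · exact Or.inr (by simp [h, add_self_w, e₀])
    have hcomm : b * d⁻¹ * b⁻¹ = d⁻¹ := by
      rw [P.comm_BQ hb hbz (inv_mem hdm) hdi]
      have : P.wPart d⁻¹ = P.alpha b := by rw [wPart, P.D.phi_inv P.gz hdm, hdphi]
      rw [this, show bW (P.alpha b) (P.alpha b) = 0 by simpa [bV, emb] using bV_self (emb (P.alpha b)),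
        bpow_zero, mul_one]
    have : x = (d⁻¹ * b) * (d * q) := by
      rw [hx]
      calc b * q = (b * d⁻¹ * b⁻¹) * (b * (d * q)) := by group
        _ = _ := by rw [hcomm]; group
    exact this ▸ mul_mem h1 (P.inP_mem_sz hp)
  · right; right; right
    have h := P.sq_parts hb hbz hq hqs
    rw [← hx, hxx] at h
    have h' := P.bpow_split (i := 0) (j := 0) (by simpa [bpow_zero] using h)
    have e2 : ∀ r t : ZMod 2, 0 = r + t → r = t := by decide
    refine ⟨bW (P.alpha b) (P.wPart q), b, q, ⟨hb, hbz, hq, hqs, hx, ha, hv, he, ?_, ?_, rfl⟩⟩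
    · rw [e2 _ _ h'.1, bW_comm]
    · rw [e2 _ _ h'.2, bW_comm]

theorem wPart_conj {c q : G} (hcz : c * z = z * c) (hce : P.D.act c e₀ = e₀) (hq : q ∈ Qf z)
    (hqs : q * s = s * q) :
    P.wPart (c * q * c⁻¹) = (P.D.act c (emb (P.wPart q))).2.2 := by
  have hq2 := (P.commute_s hq).1 hqs
  have hadd := P.D.act_add hcz (fun a ha => P.gz.norm c hcz a ha)
  have hsplit : P.D.phi q = (if (P.D.phi q).1 = 0 then 0 else e₀) + emb (P.wPart q) := by
    rcases zmod_cases (P.D.phi q).1 with h | h <;> simp [h, emb, e₀, wPart, Prod.ext_iff, hq2]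
  rw [wPart, P.D.act_phi c hcz q hq]
  conv_lhs => rw [hsplit, hadd]
  rcases zmod_cases (P.D.phi q).1 with h | h <;> simp only [h, one_ne_zero, if_false, if_true]
  · simp [P.D.act_zero P.gz hcz]
  · rw [hce]; simp [e₀]

/-- A typed involution moved to the representative pair. -/
theorem exists_conj_rep {ε : ZMod 2} {x : G} (hx : P.Typed ε x) :
    ∃ c b q, c * z = z * c ∧ c * s = s * c ∧ P.Parts ε (c * x * c⁻¹) b q ∧
      P.alpha b = repA ε ∧ P.wPart q = repV ε := by
  obtain ⟨b, q, h⟩ := hx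
  obtain ⟨r1, r2, r3, r4, r5, r6, r7, r8, r9⟩ := rep_facts ε
  have hbb : ∀ w : W6, bW w w = 0 := fun w => by simpa [bV, emb] using bV_self (emb w)
  obtain ⟨c, hcz, hcs, hce, hc⟩ := P.exists_map ![P.alpha b, P.wPart q] ![repA ε, repV ε]
    (indep_triple h.a_ne h.v_ne h.ne) (indep_triple r1 r2 r3)
    (fun i => by fin_cases i <;> simp [h.qa, h.qv, r4, r5])
    (fun i j => by
      fin_cases i <;> fin_cases j <;>
        simp [hbb, h.av, r6, bW_comm (P.wPart q) (P.alpha b), bW_comm (repV ε) (repA ε)])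
    u₃ r7 (fun i => by fin_cases i <;> simp [r8, r9])
  have hc1 := hc 0
  have hc2 := hc 1
  simp at hc1 hc2
  have ha : P.alpha (c * b * c⁻¹) = repA ε := by
    rw [P.alpha_conj h.hb h.hbz hcz hcs, hc1]; rfl
  have hv : P.wPart (c * q * c⁻¹) = repV ε := by
    rw [P.wPart_conj hcz hce h.hq h.hqs, hc2]; rfl
  refine ⟨c, c * b * c⁻¹, c * q * c⁻¹, hcz, hcs, ⟨P.gs.norm c hcs b h.hb,
    ((Commute.mul_left (Commute.mul_left hcz h.hbz) (Commute.inv_left hcz)) :),
    P.gz.norm c hcz q h.hq,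
    ((Commute.mul_left (Commute.mul_left hcs h.hqs) (Commute.inv_left hcs)) :),
    ?_, ?_, ?_, ?_, ?_, ?_, ?_⟩, ha, hv⟩
  · rw [h.eq]; group
  all_goals simp only [ha, hv]
  exacts [r1, r2, r3, r4, r5, r6]

/-- `C(z, s)` is transitive on each type. -/
theorem typed_conj {ε : ZMod 2} {x x' : G} (hx : P.Typed ε x) (hx' : P.Typed ε x') :
    ∃ c, c * z = z * c ∧ c * s = s * c ∧ c * x * c⁻¹ = x' := by
  obtain ⟨c, b, q, hcz, hcs, h, ha, hv⟩ := P.exists_conj_rep hx
  obtain ⟨c', b', q', hcz', hcs', h', ha', hv'⟩ := P.exists_conj_rep hx'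
  -- the two representatives differ by `p ∈ ⟨z, s⟩`
  have hbi : b⁻¹ * z = z * b⁻¹ := (Commute.inv_left h.hbz :)
  have hpb : InP z s (b⁻¹ * b') := P.mem_of_alpha_eq_zero (mul_mem (inv_mem h.hb) h'.hb)
    ((Commute.mul_left hbi h'.hbz) :) (by
      rw [P.alpha_mul (inv_mem h.hb) hbi h'.hb h'.hbz, P.alpha_inv h.hb h.hbz, ha, ha', add_self_w])
  have hpq : InP z s (q⁻¹ * q') := by
    refine (P.inP_iff (mul_mem (inv_mem h.hq) h'.hq)).2 ?_
    rw [P.D.phi_mul _ (inv_mem h.hq) _ h'.hq, P.D.phi_inv P.gz h.hq]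
    have hw : ∀ {u : G}, P.wPart u = repV ε → u ∈ Qf z → u * s = s * u →
        P.D.phi u = ((P.D.phi u).1, 0, repV ε) :=
      fun {u} e hu hus => Prod.ext rfl (Prod.ext ((P.commute_s hu).1 hus) e)
    rw [hw hv h.hq h.hqs, hw hv' h'.hq h'.hqs]
    rcases zmod_cases ((P.D.phi q).1 + (P.D.phi q').1) with e | e
    · exact Or.inl (by simp [e, add_self_w])
    · exact Or.inr (by simp [e, add_self_w, e₀])
  obtain ⟨i, j, hij⟩ := P.inP_elim hpb
  obtain ⟨i', j', hij'⟩ := P.inP_elim hpq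
  have hx2 : c' * x' * c'⁻¹ = (c * x * c⁻¹) * (bpow s (i + i') * bpow z (j + j')) := by
    rw [h'.eq, h.eq]
    have hcq := P.commute_bpow (P.gz.le_cent q h.hq) h.hqs i j
    calc b' * q' = b * (b⁻¹ * b') * (q * (q⁻¹ * q')) := by group
      _ = b * ((bpow s i * bpow z j) * q) * (bpow s i' * bpow z j') := by rw [hij, hij']; group
      _ = b * q * ((bpow s i * bpow z j) * (bpow s i' * bpow z j')) := by rw [← hcq.eq]; group
      _ = _ := by
        rw [← bpow_mul P.ss, ← bpow_mul P.zz]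
        congr 1
        rw [mul_assoc, mul_assoc, ← mul_assoc (bpow z j), ← P.bpow_comm i', mul_assoc]
  obtain ⟨a₁, hav, haa⟩ := rep_dual ε (i + i') (j + j')
  set m := P.lift a₁
  have hm := P.lift_mem a₁
  have hmz := P.lift_comm a₁
  have hms := P.gs.le_cent m hm
  have hmain : m * (c * x * c⁻¹) * m⁻¹ = c' * x' * c'⁻¹ := by
    rw [hx2, h.eq]
    calc m * (b * q) * m⁻¹ = (m * b * m⁻¹) * (m * q * m⁻¹) := by group
      _ = b * (bpow s (bW a₁ (repA ε)) * (q * bpow (s * z) (bW (repV ε) a₁))) := by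
        rw [P.conj_B h.hb h.hbz hm hmz, P.comm_BQ hm hmz h.hq h.hqs, P.alpha_lift, ha, hv]
        group
      _ = b * q * (bpow s (bW a₁ (repA ε)) * bpow (s * z) (bW (repV ε) a₁)) := by
        have := (P.commute_bpow (P.gz.le_cent q h.hq) h.hqs (bW a₁ (repA ε)) 0).eq
        rw [bpow_zero, mul_one] at this
        rw [← mul_assoc (bpow s _), ← this]; group
      _ = _ := by
        congr 1
        rw [P.bpow_sz, ← mul_assoc, bpow_mul P.ss, bW_comm (repV ε), hav, haa, add_assoc,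
          (by decide : ∀ r : ZMod 2, r + r = 0), add_zero]
  refine ⟨c'⁻¹ * m * c, ((Commute.mul_left (Commute.mul_left (Commute.inv_left hcz') hmz) hcz) :),
    ((Commute.mul_left (Commute.mul_left (Commute.inv_left hcs') hms) hcs) :), ?_⟩
  calc c'⁻¹ * m * c * x * (c'⁻¹ * m * c)⁻¹ = c'⁻¹ * (m * (c * x * c⁻¹) * m⁻¹) * c' := by group
    _ = x' := by rw [hmain]; group

/-- An involution of `O₂(C(z))` other than `z` is conjugate to `s`. -/
theorem isConj_of_mem {x : G} (hx : x ∈ Qf z) (hxx : x * x = 1) (hx1 : x ≠ 1) (hxz : x ≠ z) :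
    IsConj x s := by
  set u := P.D.phi x
  have hu0 : u ≠ 0 := fun h => ((P.D.phi_eq_zero x hx).1 h).elim hx1 hxz
  obtain ⟨c, hc, hce⟩ := P.D.exists_map P.gz (n := 1) ![u] ![e₀]
    (linearIndependent_unique_iff.2 (by simpa using hu0))
    (linearIndependent_unique_iff.2 (by simpa using e₀_ne))
    (fun i => by fin_cases i; simp [(P.D.sq_iff x hx).1 hxx, qV_e₀, u])
    (fun i j => by fin_cases i; fin_cases j; simp [bV_self])
    (emb u₁) (by decide) (fun i => by fin_cases i; simp; decide)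
  have h1 : P.D.phi (c * x * c⁻¹) = e₀ := by
    rw [P.D.act_phi c hc x hx]; simpa using hce 0
  rcases P.D.eq_or_of_phi_eq P.gz (P.gz.norm c hc x hx) P.s_mem (h1.trans P.phi_s.symm) with e | e
  · exact isConj_iff.2 ⟨c, e⟩
  · obtain ⟨m, hm, hmf⟩ := P.D.phi_surj f₀
    refine (isConj_iff.2 ⟨c, e⟩).trans (isConj_iff.2 ⟨m, ?_⟩)
    have hms : m * s * m⁻¹ = s * z := by
      rw [P.D.conj_eq P.gz P.s_mem hm, hmf, P.phi_s]; rfl
    calc m * (s * z) * m⁻¹ = (m * s * m⁻¹) * (m * z * m⁻¹) := by group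
      _ = s := by
        rw [hms, P.gz.le_cent m hm, mul_inv_cancel_right, mul_assoc, P.zz, mul_one]

end Pair

end Cfsg.Agent.Lib.Co1Type47
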