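import Cfsg.Agent.Lib.Co1Type47.Involution
import Cfsg.Agent.Lib.Co1Type47.Typed

/-!
An involution of `C(z, s)` inducing a root element of a line of `e₀^⊥/e₀` times a Siegel map: one
of the three centres `z`, `s`, `s z` sees at most eight moved vectors.
-/

set_option autoImplicit false
set_option synthInstance.maxSize 1024
set_option synthInstance.maxHeartbeats 200000

namespace Cfsg.Agent.Lib.Co1Type47

open LargeExtra

/-- Exchange `e₀, f₀` with the first plane of `W6`. -/
def swapOne : V8 ≃+ V8 where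
  toFun v := (v.2.2.1.1, v.2.2.1.2, ((v.1, v.2.1), v.2.2.2.1, v.2.2.2.2))
  invFun v := (v.2.2.1.1, v.2.2.1.2, ((v.1, v.2.1), v.2.2.2.1, v.2.2.2.2))
  left_inv v := rfl
  right_inv v := rfl
  map_add' u v := rfl

/-- Exchange `e₀, f₀` with the second plane, then that plane with the first. -/
def swapTwo : V8 ≃+ V8 where
  toFun v := (v.2.2.2.1.1, v.2.2.2.1.2, ((v.1, v.2.1), v.2.2.1, v.2.2.2.2))
  invFun v := (v.2.2.1.1, v.2.2.1.2, (v.2.2.2.1, (v.1, v.2.1), v.2.2.2.2))
  left_inv v := rfl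
  right_inv v := rfl
  map_add' u v := rfl

def swapOneIso : Iso where
  map := swapOne
  iso v := by
    show qV (v.2.2.1.1, v.2.2.1.2, ((v.1, v.2.1), v.2.2.2.1, v.2.2.2.2)) = _
    simp only [qV, qW, qH]; ring

def swapTwoIso : Iso where
  map := swapTwo
  iso v := by
    show qV (v.2.2.2.1.1, v.2.2.2.1.2, ((v.1, v.2.1), v.2.2.1, v.2.2.2.2)) = _
    simp only [qV, qW, qH]; ring

theorem swapOne_facts : swapOne (emb w₁) = e₀ ∧ swapOne e₀ = emb w₁ ∧
    (∀ v, swapOne.symm (siegel w₂ (swapOne v)) = tL v) ∧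
    (∀ v, swapOne.symm (siegel w₁ (swapOne v)) = siegel w₁ v) := by decide +kernel

theorem swapTwo_facts : swapTwo (emb w₂) = e₀ ∧ swapTwo e₀ = emb w₁ ∧
    (∀ v, swapTwo.symm (siegel w₂ (swapTwo v)) = tL v) ∧
    (∀ v, swapTwo.symm (siegel w₁ (swapTwo v)) = siegel w₂ v) := by decide +kernel

theorem orth_of_fix_f₀ : ∀ a : W6, siegel a (tL (siegel a (tL f₀))) = f₀ →
    bW a w₁ = 0 ∧ bW a w₂ = 0 := by decide +kernel

theorem orth_of_tL : ∀ v : W6, (tL (emb v)).2.2 = v → bW v w₁ = 0 ∧ bW v w₂ = 0 := by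
  decide +kernel

theorem tL_orth : ∀ w : W6, bW w w₁ = 0 → bW w w₂ = 0 → ∀ r : ZMod 2, tL (r, 0, w) = (r, 0, w) := by
  decide +kernel

theorem siegel_tL : ∀ a : W6, bW a w₁ = 0 → bW a w₂ = 0 → ∀ w : V8,
    siegel a (tL w) = tL (siegel a w) := by decide +kernel

theorem no_irreducible : ∀ a ν v : H2, a ≠ 0 → ν + v ≠ 0 → ν + v + a ≠ 0 →
    qH a + bH v a = 0 → qH v + bH v a + bH ν a = 0 → False := by decide +kernel

theorem orth_form : ∀ a : W6, bW a w₁ = 0 → bW a w₂ = 0 →
    a = a.1.1 • w₁ + a.2.1.1 • w₂ + ((0, 0), (0, 0), a.2.2) ∧ qW a = qH a.2.2 := by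
  decide +kernel

namespace Pair

variable {G : Type*} [Group G] {z s : G} {Qf : G → Subgroup G} (P : Pair z s Qf)

/-- The data of the irreducible shape. -/
structure Line (b q Y r : G) : Prop where
  hb : b ∈ Qf s
  hbz : b * z = z * b
  hq : q ∈ Qf z
  hqs : q * s = s * q
  hY : Y * Y = 1
  hYz : Y * z = z * Y
  hYs : Y * s = s * Y
  hYr : Y ∈ Qf r
  hr : r ∈ Qf z
  hgr : Good (Qf r) r
  hrphi : P.D.phi r = emb w₁
  hYact : ∀ v, P.D.act Y v = tL v
  hinv : (b * q * Y) * (b * q * Y) = 1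

variable {b q Y r : G}

include P

theorem orth_line (h : P.Line b q Y r) :
    bW (P.alpha b) w₁ = 0 ∧ bW (P.alpha b) w₂ = 0 := by
  refine orth_of_fix_f₀ _ ?_
  have hqz : q * z = z * q := P.gz.le_cent q h.hq
  have hbq : b * q * z = z * (b * q) := (Commute.mul_left h.hbz hqz :)
  have hx : b * q * Y * z = z * (b * q * Y) := (Commute.mul_left hbq h.hYz :)
  have e : ∀ v, P.D.act (b * q * Y) v = siegel (P.alpha b) (tL v) := fun v => by
    rw [P.D.act_mul P.gz hbq h.hYz, P.D.act_mul P.gz h.hbz hqz, P.D.act_of_mem P.gz h.hq,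
      P.act_eq h.hb h.hbz, h.hYact]
  rw [← e, ← e, ← P.D.act_mul P.gz hx hx, h.hinv, P.D.act_one P.gz]

/-- Conjugation by `Y` of a parameter orthogonal to the line. -/
theorem conjY [Finite G] (h : P.Line b q Y r) {c : G} (hc : c ∈ Qf s) (hcz : c * z = z * c)
    (ho₁ : bW (P.alpha c) w₁ = 0) (ho₂ : bW (P.alpha c) w₂ = 0) :
    ∃ l : ZMod 2, Y * c * Y = c * bpow z l := by
  have hYi : Y⁻¹ = Y := inv_eq_of_mul_eq_one_right h.hY
  have hcr : c * r * c⁻¹ = r := by
    have hrs : r * s = s * r := (P.commute_s h.hr).2 (by rw [h.hrphi]; rfl)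
    rw [P.comm_BQ hc hcz h.hr hrs, show P.wPart r = w₁ by rw [wPart, h.hrphi]; rfl, bW_comm, ho₁,
      bpow_zero, mul_one]
  have h1 : Y * c * Y * c⁻¹ ∈ Qf r := by
    have := mul_mem h.hYr (h.hgr.norm c (conj_eq_iff_comm.1 hcr) Y h.hYr)
    simpa [mul_assoc] using this
  have hcw : c * z = z * c := hcz
  have hd2 : Y * c * Y * c⁻¹ ∈ Qf s := by
    have := mul_mem (P.gs.norm Y h.hYs c hc) (inv_mem hc)
    rwa [hYi] at this
  have hact : ∀ v, P.D.act (Y * c * Y * c⁻¹) v = v := by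
    intro v
    have hYc : Y * c * z = z * (Y * c) := (Commute.mul_left h.hYz hcz :)
    have hYcY : Y * c * Y * z = z * (Y * c * Y) := (Commute.mul_left hYc h.hYz :)
    have hci : c⁻¹ * z = z * c⁻¹ := (Commute.inv_left hcz :)
    rw [P.D.act_mul P.gz hYcY hci, P.D.act_mul P.gz hYc h.hYz, P.D.act_mul P.gz h.hYz hcz,
      h.hYact, h.hYact, P.act_eq (inv_mem hc) hci, P.alpha_inv hc hcz, P.act_eq hc hcz]
    have key := siegel_tL (P.alpha c) ho₁ ho₂
    rw [key, tL_facts.1 _ |>.1, siegel_siegel, add_self_w, siegel_zero]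
  have hd1 : Y * c * Y * c⁻¹ ∈ Qf z :=
    P.D.act_eq_id _ ((Commute.mul_left (Commute.mul_left (Commute.mul_left h.hYz hcz) h.hYz)
      (Commute.inv_left hcz)) :) hact
  obtain ⟨i, j, hij⟩ := P.inP_elim (P.inP_of_both hd1 hd2)
  have hi : i = 0 := by
    refine (zmod_cases i).resolve_right fun hi => ?_
    have hz : z ∈ Qf r := P.core.orth_symm h.hgr P.gz h.hr
    have hs : s ∈ Qf r := by
      rw [hij, hi, bpow_one] at h1
      rcases bpow_cases z j with e | e <;> rw [e] at h1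
      · simpa using h1
      · simpa [mul_assoc, P.zz] using mul_mem h1 hz
    have h4 := (P.inP_iff h.hr).1 (P.inP_of_both h.hr (P.core.orth_symm P.gs h.hgr hs))
    rw [h.hrphi] at h4
    rcases h4 with e | e <;> exact absurd e (by decide)
  refine ⟨j, ?_⟩
  rw [hi, bpow_zero, one_mul] at hij
  calc Y * c * Y = (Y * c * Y * c⁻¹) * c := by group
    _ = bpow z j * c := by rw [hij]
    _ = c * bpow z j := by
      rcases bpow_cases z j with e | e <;> rw [e]
      · group
      · exact hcz.symm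

/-- The sign of `Y` on a parameter. -/
noncomputable def lbit (Y : G) (a : W6) : ZMod 2 :=
  open scoped Classical in if Y * P.lift a * Y = P.lift a then 0 else 1

theorem lbit_spec [Finite G] (h : P.Line b q Y r) {c : G} (hc : c ∈ Qf s) (hcz : c * z = z * c)
    (ho₁ : bW (P.alpha c) w₁ = 0) (ho₂ : bW (P.alpha c) w₂ = 0) :
    Y * c * Y = c * bpow z (P.lbit Y (P.alpha c)) := by
  classical
  set a := P.alpha c
  have hl : Y * P.lift a * Y = P.lift a * bpow z (P.lbit Y a) := by
    obtain ⟨l, hl⟩ := P.conjY h (P.lift_mem a) (P.lift_comm a)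
      (by rw [P.alpha_lift]; exact ho₁) (by rw [P.alpha_lift]; exact ho₂)
    rcases zmod_cases l with rfl | rfl
    · rw [bpow_zero, mul_one] at hl
      simp [lbit, hl, bpow_zero]
    · rw [bpow_one] at hl
      have hne : ¬ Y * P.lift a * Y = P.lift a := fun e => P.gz.x_ne (by
        rw [e] at hl; simpa using hl.symm)
      simp [lbit, hne, bpow, hl]
  have hp : InP z s ((P.lift a)⁻¹ * c) := by
    refine P.mem_of_alpha_eq_zero (mul_mem (inv_mem (P.lift_mem a)) hc)
      ((Commute.mul_left (Commute.inv_left (P.lift_comm a)) hcz) :) ?_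
    rw [P.alpha_mul (inv_mem (P.lift_mem a)) (Commute.inv_left (P.lift_comm a) :) hc hcz,
      P.alpha_inv (P.lift_mem a) (P.lift_comm a), P.alpha_lift]
    exact add_self_w a
  have hYp : Y * ((P.lift a)⁻¹ * c) * Y⁻¹ = (P.lift a)⁻¹ * c :=
    P.comm_conj_fix h.hYz h.hYs hp
  rw [inv_eq_of_mul_eq_one_right h.hY] at hYp
  calc Y * c * Y = (Y * P.lift a * Y) * (Y * ((P.lift a)⁻¹ * c) * Y) := by
        calc Y * c * Y = Y * P.lift a * 1 * ((P.lift a)⁻¹ * c) * Y := by group
          _ = _ := by rw [← h.hY]; group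
    _ = P.lift a * bpow z (P.lbit Y a) * ((P.lift a)⁻¹ * c) := by rw [hl, hYp]
    _ = P.lift a * ((P.lift a)⁻¹ * c) * bpow z (P.lbit Y a) := by
      rcases bpow_cases z (P.lbit Y a) with e | e <;> rw [e]
      · group
      · have hcc : z * ((P.lift a)⁻¹ * c) = ((P.lift a)⁻¹ * c) * z :=
          ((Commute.mul_left (Commute.inv_left (P.lift_comm a)) hcz) :).symm
        rw [mul_assoc, hcc, ← mul_assoc]
    _ = c * bpow z (P.lbit Y a) := by group

theorem lbit_add [Finite G] (h : P.Line b q Y r) {x y : W6} (hx₁ : bW x w₁ = 0) (hx₂ : bW x w₂ = 0)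
    (hy₁ : bW y w₁ = 0) (hy₂ : bW y w₂ = 0) :
    P.lbit Y (x + y) = P.lbit Y x + P.lbit Y y := by
  obtain ⟨c, hcl⟩ : ∃ c, c = P.lift x := ⟨_, rfl⟩
  obtain ⟨d, hdl⟩ : ∃ d, d = P.lift y := ⟨_, rfl⟩
  have hc : c ∈ Qf s := hcl ▸ P.lift_mem x
  have hcz : c * z = z * c := hcl ▸ P.lift_comm x
  have hd : d ∈ Qf s := hdl ▸ P.lift_mem y
  have hdz : d * z = z * d := hdl ▸ P.lift_comm y
  have hac : P.alpha c = x := hcl ▸ P.alpha_lift x
  have had : P.alpha d = y := hdl ▸ P.alpha_lift y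
  have hcd : c * d * z = z * (c * d) := (Commute.mul_left hcz hdz :)
  have ha : P.alpha (c * d) = x + y := by
    rw [P.alpha_mul hc hcz hd hdz, hac, had]
  have e := P.lbit_spec h (mul_mem hc hd) hcd (by rw [ha, bW_add_left, hx₁, hy₁, add_zero])
    (by rw [ha, bW_add_left, hx₂, hy₂, add_zero])
  rw [ha] at e
  have e1 := P.lbit_spec h hc hcz (by rw [hac, hx₁]) (by rw [hac, hx₂])
  have e2 := P.lbit_spec h hd hdz (by rw [had, hy₁]) (by rw [had, hy₂])
  rw [hac] at e1
  rw [had] at e2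
  have e3 : Y * (c * d) * Y = (Y * c * Y) * (Y * d * Y) := by
    calc Y * (c * d) * Y = Y * c * 1 * d * Y := by group
      _ = _ := by rw [← h.hY]; group
  rw [e, e1, e2] at e3
  have e4 : c * bpow z (P.lbit Y x) * (d * bpow z (P.lbit Y y))
      = c * d * bpow z (P.lbit Y x + P.lbit Y y) := by
    rw [← bpow_mul P.zz]
    rcases bpow_cases z (P.lbit Y x) with u | u <;> rw [u]
    · group
    · rw [mul_assoc, ← mul_assoc z d, ← hdz]; group
  rw [e4] at e3
  exact bpow_inj P.gz.x_ne (mul_left_cancel e3)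

/-- The basic equations. -/
theorem line_eqs [Finite G] (h : P.Line b q Y r) (hYQ : ∀ d ∈ Qf z, bV (P.D.phi d) (emb w₁) = 0 →
      bV (P.D.phi d) (emb w₂) = 0 → Y * d * Y = d) :
    bW (P.wPart q) w₁ = 0 ∧ bW (P.wPart q) w₂ = 0 ∧ Y * q * Y = q ∧
      qW (P.alpha b) + bW (P.wPart q) (P.alpha b) = 0 ∧
      qW (P.wPart q) + bW (P.wPart q) (P.alpha b) + P.lbit Y (P.alpha b) = 0 := by
  obtain ⟨ha₁, ha₂⟩ := P.orth_line h
  set l := P.lbit Y (P.alpha b)
  have e0 := P.lbit_spec h h.hb h.hbz ha₁ ha₂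
  have hYq : Y * q * Y ∈ Qf z := by
    have := P.gz.norm Y h.hYz q h.hq
    rwa [inv_eq_of_mul_eq_one_right h.hY] at this
  have hexp : (b * q * Y) * (b * q * Y) = b * q * (Y * b * Y) * (Y * q * Y) := by
    calc (b * q * Y) * (b * q * Y) = b * q * Y * b * 1 * q * Y := by group
      _ = _ := by rw [← h.hY]; group
  rw [h.hinv, e0] at hexp
  have hbb := P.sq_B h.hb h.hbz
  have hc := P.comm_BQ h.hb h.hbz h.hq h.hqs
  set k := bW (P.wPart q) (P.alpha b)
  have hprod : b * q * (b * bpow z l) = q * (bpow (s * z) k * (bpow s (qW (P.alpha b)) * bpow z l)) := by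
    calc b * q * (b * bpow z l) = (b * q * b⁻¹) * (b * b) * bpow z l := by group
      _ = _ := by rw [hc, hbb]; group
  rw [hprod, P.bpow_sz] at hexp
  set p := bpow s k * bpow z k * (bpow s (qW (P.alpha b)) * bpow z l) with hp
  have hpz : p ∈ Qf z := by
    refine mul_mem (mul_mem ?_ ?_) (mul_mem ?_ ?_)
    all_goals
      first
        | exact (bpow_cases s _).elim (fun e => by rw [e]; exact one_mem _) (fun e => by rw [e]; exact P.s_mem)
        | exact (bpow_cases z _).elim (fun e => by rw [e]; exact one_mem _) (fun e => by rw [e]; exact P.gz.x_mem)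
  have hphi : (P.D.phi p).2.2 = 0 := by
    have : p = bpow s (k + qW (P.alpha b)) * bpow z (k + l) := by
      rw [hp, ← bpow_mul P.ss, ← bpow_mul P.zz, mul_assoc, ← mul_assoc (bpow z k), ← P.bpow_comm,
        mul_assoc, mul_assoc]
    rw [this, P.phi_bpow]
  have hv : tL (P.D.phi q) = P.D.phi (Y * q * Y) := by
    rw [← h.hYact, ← P.D.act_phi Y h.hYz q h.hq, inv_eq_of_mul_eq_one_right h.hY]
  have hW : (tL (P.D.phi q)).2.2 = P.wPart q := by
    have h1 : Y * q * Y = (q * p)⁻¹ := eq_inv_of_mul_eq_one_right hexp.symm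
    rw [hv, h1, P.D.phi_inv P.gz (mul_mem h.hq hpz), P.D.phi_mul q h.hq p hpz]
    simp [hphi, wPart]
  have hsplit : P.D.phi q = (if (P.D.phi q).1 = 0 then 0 else e₀) + emb (P.wPart q) := by
    have := (P.commute_s h.hq).1 h.hqs
    rcases zmod_cases (P.D.phi q).1 with e | e <;> simp [e, emb, e₀, wPart, Prod.ext_iff, this]
  have hvo : bW (P.wPart q) w₁ = 0 ∧ bW (P.wPart q) w₂ = 0 := by
    refine orth_of_tL _ ?_
    rw [hsplit, tL_add] at hW
    have h0 : tL 0 = 0 := by decide +kernel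
    rcases zmod_cases (P.D.phi q).1 with e | e <;>
      simp only [e, one_ne_zero, if_false, if_true, h0, tL_facts.2, Prod.snd_add] at hW
    · simpa using hW
    · simpa [e₀] using hW
  have hYqY : Y * q * Y = q := by
    refine hYQ q h.hq ?_ ?_ <;>
      simp [bV, emb, (P.commute_s h.hq).1 h.hqs]
    · exact hvo.1
    · exact hvo.2
  rw [hYqY] at hexp
  have hfin : (1 : G) = bpow s (k + qW (P.alpha b)) * bpow z (k + l + qW (P.wPart q)) := by
    rw [hexp]
    have hcomm : Commute q p := by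
      refine Commute.mul_right (P.commute_bpow (P.gz.le_cent q h.hq) h.hqs k k) ?_
      exact P.commute_bpow (P.gz.le_cent q h.hq) h.hqs _ _
    have hqq : q * q = bpow z (qW (P.wPart q)) := by
      rw [P.D.sq_eq P.gz h.hq]; simp [qV, wPart, (P.commute_s h.hq).1 h.hqs]
    calc q * p * q = p * (q * q) := by rw [hcomm.eq, mul_assoc]
      _ = _ := by
        rw [hqq, hp, ← bpow_mul P.ss, ← bpow_mul P.zz, ← bpow_mul P.zz]
        simp only [mul_assoc]
        rw [← mul_assoc (bpow z k) (bpow s _), ← P.bpow_comm]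
        simp only [mul_assoc]
  have := P.bpow_split (i := 0) (j := 0) (by simpa [bpow_zero] using hfin)
  exact ⟨hvo.1, hvo.2, hYqY, by rw [add_comm]; exact this.1.symm, by
    have h2 := this.2
    have : ∀ A B C : ZMod 2, 0 = B + C + A → A + B + C = 0 := by decide
    exact this _ _ _ h2⟩

/-- The parameters with thirty-two fixed vectors. -/
def fixPar (p : ZMod 2 × ZMod 2 × H2) : W6 := ((p.1, 0), (p.2.1, 0), p.2.2)

omit P in
theorem fixPar_orth : ∀ p : ZMod 2 × ZMod 2 × H2,
    bW (fixPar p) w₁ = 0 ∧ bW (fixPar p) w₂ = 0 := by decide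

/-- If the first centre sees a short parameter, it has thirty-two fixed vectors. -/
theorem fix_first [Finite G] (h : P.Line b q Y r) (ha : (P.alpha b).2.2 = 0) :
    ∃ f : ZMod 2 × ZMod 2 × ZMod 2 × H2 → V8, Function.Injective f ∧
      ∀ p, P.D.act (b * q * Y) (f p) = f p := by
  refine ⟨fun p => (p.1, 0, fixPar p.2), fun p p' e => ?_, fun p => ?_⟩
  · simp [fixPar, Prod.ext_iff] at e
    exact Prod.ext e.1 (Prod.ext e.2.1 (Prod.ext e.2.2.1 (Prod.ext e.2.2.2.1 e.2.2.2.2)))
  · have hqz : q * z = z * q := P.gz.le_cent q h.hq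
    obtain ⟨ha₁, ha₂⟩ := P.orth_line h
    obtain ⟨hp₁, hp₂⟩ := fixPar_orth p.2
    rw [P.D.act_mul P.gz (Commute.mul_left h.hbz hqz :) h.hYz, P.D.act_mul P.gz h.hbz hqz,
      P.D.act_of_mem P.gz h.hq, P.act_eq h.hb h.hbz, h.hYact]
    rw [tL_orth _ hp₁ hp₂, siegel_orth _ rfl]
    have : bW (fixPar p.2) (P.alpha b) = 0 := by
      simp [bW, bH, w₁, w₂] at ha₁ ha₂
      simp [fixPar, bW, bH, ha, ha₁, ha₂]
    simp [this]

/-- If the second centre sees a short parameter, it has thirty-two fixed vectors. -/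
theorem fix_second [Finite G] (h : P.Line b q Y r) (hYQ : ∀ d ∈ Qf z, bV (P.D.phi d) (emb w₁) = 0 →
      bV (P.D.phi d) (emb w₂) = 0 → Y * d * Y = d)
    (hc : ∀ p, bW (P.wPart q) (fixPar p) + P.lbit Y (fixPar p) = 0) :
    ∃ f : ZMod 2 × ZMod 2 × ZMod 2 × H2 → V8, Function.Injective f ∧
      ∀ p, P.D'.act (b * q * Y) (f p) = f p := by
  obtain ⟨-, -, hYqY, -, -⟩ := P.line_eqs h hYQ
  let el : ZMod 2 × ZMod 2 × ZMod 2 × H2 → G := fun p => P.lift (fixPar p.2) * bpow z p.1
  have hzb : ∀ e, bpow z e ∈ Qf s := fun e =>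
    (bpow_cases z e).elim (fun u => by rw [u]; exact one_mem _) (fun u => by rw [u]; exact P.z_mem)
  have hel : ∀ p, el p ∈ Qf s := fun p => mul_mem (P.lift_mem _) (hzb _)
  refine ⟨fun p => P.D'.phi (el p), fun p p' e => ?_, fun p => ?_⟩
  · have hf : ∀ p, P.D'.phi (el p) = P.D'.phi (P.lift (fixPar p.2)) + (p.1, 0, 0) := fun p => by
      rw [P.D'.phi_mul _ (P.lift_mem _) _ (hzb _)]
      congr 1
      rcases zmod_cases p.1 with u | u <;> rw [u]
      · rw [bpow_zero, P.D'.phi_one P.gs]; rfl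
      · rw [bpow_one, P.phi'_z]; rfl
    simp only [hf] at e
    have e1 : P.Fmap (fixPar p.2) = P.Fmap (fixPar p'.2) := by
      have := congrArg (fun v : V8 => v.2.2) e
      simpa [Fmap, beta] using this
    have e2 := P.Fmap_injective e1
    have e3 := congrArg (fun v : V8 => v.1) e
    rw [e2] at e3
    simp at e3
    simp [fixPar, Prod.ext_iff] at e2
    exact Prod.ext e3 (Prod.ext e2.1 (Prod.ext e2.2.1 (Prod.ext e2.2.2.1 e2.2.2.2)))
  · obtain ⟨y, hy⟩ : ∃ y, P.lift (fixPar p.2) = y := ⟨_, rfl⟩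
    have hym : y ∈ Qf s := hy ▸ P.lift_mem _
    have hyz : y * z = z * y := hy ▸ P.lift_comm _
    have hal : P.alpha y = fixPar p.2 := hy ▸ P.alpha_lift _
    obtain ⟨hp₁, hp₂⟩ := fixPar_orth p.2
    have hqs := h.hqs
    have hbs : b * s = s * b := P.gs.le_cent b h.hb
    have hxs : b * q * Y * s = s * (b * q * Y) :=
      ((Commute.mul_left (Commute.mul_left hbs hqs) h.hYs) :)
    have hxz : b * q * Y * z = z * (b * q * Y) :=
      ((Commute.mul_left (Commute.mul_left h.hbz (P.gz.le_cent q h.hq)) h.hYz) :)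
    rw [← P.D'.act_phi _ hxs _ (hel p)]
    have hkey : (b * q * Y) * y * (b * q * Y)⁻¹ =
        y * bpow s (bW (P.alpha b) (fixPar p.2) + bW (P.wPart q) (fixPar p.2)) := by
      have hY1 : Y⁻¹ = Y := inv_eq_of_mul_eq_one_right h.hY
      have e0 := P.lbit_spec h hym hyz (by rw [hal]; exact hp₁) (by rw [hal]; exact hp₂)
      rw [hal] at e0
      set k' := bW (P.wPart q) (fixPar p.2) with hk'
      set l := P.lbit Y (fixPar p.2) with hl
      have hkl : l = k' := (by decide : ∀ u v : ZMod 2, u + v = 0 → v = u) _ _ (hc p.2)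
      have hq1 : q * y * q⁻¹ = y * (bpow s k' * bpow z k') := by
        have h0 := P.comm_BQ hym hyz h.hq h.hqs
        rw [hal, ← hk', P.bpow_sz] at h0
        have hco := P.commute_bpow (P.gz.le_cent q h.hq) h.hqs k' k'
        have hcy := P.commute_bpow hyz (P.gs.le_cent y hym) k' k'
        set σ := bpow s k' * bpow z k'
        have hσ : σ⁻¹ = σ := inv_eq_of_mul_eq_one_right (by
          show bpow s k' * bpow z k' * (bpow s k' * bpow z k') = 1
          rw [← P.bpow_sz]
          rcases bpow_cases (s * z) k' with e | e <;> rw [e]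
          · rw [mul_one]
          · exact P.sz_sq)
        have h1 : y * q = q * σ * y := by rw [← h0]; group
        calc q * y * q⁻¹ = σ⁻¹ * (σ * q * y) * q⁻¹ := by group
          _ = σ⁻¹ * (y * q) * q⁻¹ := by rw [h1, hco.eq]
          _ = σ⁻¹ * y := by group
          _ = y * σ := by rw [hσ, hcy.eq]
      have hb1 := P.conj_B hym hyz h.hb h.hbz
      rw [hal] at hb1
      have hcomm : ∀ i j, Commute (b * q) (bpow s i * bpow z j) := fun i j =>
        Commute.mul_left (P.commute_bpow h.hbz hbs i j)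
          (P.commute_bpow (P.gz.le_cent q h.hq) h.hqs i j)
      calc b * q * Y * y * (b * q * Y)⁻¹ = (b * q) * (Y * y * Y) * (b * q)⁻¹ := by
            rw [mul_inv_rev, hY1]; group
        _ = (b * q) * y * (bpow s 0 * bpow z l) * (b * q)⁻¹ := by
            rw [e0, bpow_zero, one_mul]; group
        _ = (b * q) * y * (b * q)⁻¹ * (bpow s 0 * bpow z l) := by
            have hc := ((hcomm 0 l).inv_left).eq
            calc b * q * y * (bpow s 0 * bpow z l) * (b * q)⁻¹
                = b * q * y * ((bpow s 0 * bpow z l) * (b * q)⁻¹) := by group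
              _ = b * q * y * ((b * q)⁻¹ * (bpow s 0 * bpow z l)) := by rw [hc]
              _ = _ := by group
        _ = b * (q * y * q⁻¹) * b⁻¹ * (bpow s 0 * bpow z l) := by group
        _ = (b * y * b⁻¹) * (bpow s k' * bpow z k') * (bpow s 0 * bpow z l) := by
            rw [hq1]
            have hc := ((P.commute_bpow h.hbz hbs k' k').inv_left).eq
            calc b * (y * (bpow s k' * bpow z k')) * b⁻¹ * (bpow s 0 * bpow z l)
                = b * y * ((bpow s k' * bpow z k') * b⁻¹) * (bpow s 0 * bpow z l) := by group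
              _ = b * y * (b⁻¹ * (bpow s k' * bpow z k')) * (bpow s 0 * bpow z l) := by rw [hc]
              _ = _ := by group
        _ = _ := by
            rw [hb1, hkl, bpow_zero, one_mul]
            simp only [mul_assoc]
            rw [bpow_mul P.zz, (by decide : ∀ u : ZMod 2, u + u = 0), bpow_zero, mul_one,
              bpow_mul P.ss]
    have hfix : (b * q * Y) * bpow z p.1 * (b * q * Y)⁻¹ = bpow z p.1 := by
      rcases bpow_cases z p.1 with u | u <;> rw [u]
      · group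
      · exact conj_eq_iff_comm.2 hxz
    have htot : (b * q * Y) * el p * (b * q * Y)⁻¹ =
        (y * bpow s (bW (P.alpha b) (fixPar p.2) + bW (P.wPart q) (fixPar p.2))) * bpow z p.1 := by
      calc (b * q * Y) * el p * (b * q * Y)⁻¹
          = ((b * q * Y) * y * (b * q * Y)⁻¹) * ((b * q * Y) * bpow z p.1 * (b * q * Y)⁻¹) := by
            simp only [el, hy]; group
        _ = _ := by rw [hkey, hfix]
    rw [htot]
    set t := bW (P.alpha b) (fixPar p.2) + bW (P.wPart q) (fixPar p.2)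
    have hst : bpow s t ∈ Qf s :=
      (bpow_cases s t).elim (fun u => by rw [u]; exact one_mem _) (fun u => by rw [u]; exact P.gs.x_mem)
    show P.D'.phi (y * bpow s t * bpow z p.1) = P.D'.phi (P.lift (fixPar p.2) * bpow z p.1)
    rw [hy]
    rw [P.D'.phi_mul _ (mul_mem hym hst) _ (hzb _), P.D'.phi_mul _ hym _ hst,
      P.D'.phi_mul _ hym _ (hzb _)]
    have : P.D'.phi (bpow s t) = 0 := (P.D'.phi_eq_zero _ hst).2 (bpow_cases s t)
    rw [this, add_zero]

end Pair

end Cfsg.Agent.Lib.Co1Type47
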