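import Cfsg.Agent.Lib.Co1Type47.Formulas

/-!
Involutory isometries of `V8`: reflections, Siegel maps of a singular point, and the generic case
with sixteen moved vectors.
-/

set_option autoImplicit false
set_option synthInstance.maxSize 1024
set_option synthInstance.maxHeartbeats 200000

namespace Cfsg.Agent.Lib.Co1Type47

theorem h2zero : ∀ r : ZMod 2, r + r = 0 := by decide

theorem v8_eq_of_add {u v : V8} (h : u + v = 0) : u = v := add_eq_zero.1 h

theorem w6_eq_of_add {u v : W6} (h : u + v = 0) : u = v :=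
  (add_eq_zero_iff_eq_neg.1 h).trans (neg_eq_of_add_eq_zero_left (add_self_w v))

theorem bW_self (w : W6) : bW w w = 0 := by simpa [bV, emb] using bV_self (emb w)

theorem siegel_add (a : W6) (x y : V8) : siegel a (x + y) = siegel a x + siegel a y := by
  simp only [siegel, Prod.fst_add, Prod.snd_add, bW_add_left, add_smul, Prod.mk_add_mk,
    Prod.mk.injEq, true_and]
  exact ⟨by ring, by abel⟩

/-- An involutory isometry. -/
structure Inv8 (t : V8 → V8) : Prop where
  add : ∀ u v, t (u + v) = t u + t v
  iso : ∀ v, qV (t v) = qV v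
  invol : ∀ v, t (t v) = v

namespace Inv8

variable {t : V8 → V8} (ht : Inv8 t)
include ht

theorem zero : t 0 = 0 := by
  have := ht.add 0 0
  rw [add_zero] at this
  exact left_eq_add.1 this

theorem bil (u v : V8) : bV (t u) (t v) = bV u v := by
  have h := ht.iso (u + v)
  rw [ht.add, qV_add, qV_add, ht.iso, ht.iso] at h
  exact add_left_cancel h

theorem adj (u v : V8) : bV (t u) v = bV u (t v) := by
  have := ht.bil u (t v)
  rwa [ht.invol] at this

/-- The moved part. -/
theorem adj_sub (u v : V8) : bV (t u + u) v = bV u (t v + v) := by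
  rw [bV_add_left, bV_add_right, ht.adj]

theorem fix_moved (u : V8) : t (t u + u) = t u + u := by rw [ht.add, ht.invol, add_comm]

theorem moved_orth (u v : V8) : bV (t u + u) (t v + v) = 0 := by
  rw [ht.adj_sub, ht.fix_moved, add_self, bV_zero_right]

theorem qV_moved_add (u v : V8) :
    qV (t u + u + (t v + v)) = qV (t u + u) + qV (t v + v) := by
  rw [qV_add, ht.moved_orth, add_zero]

theorem qV_moved (u : V8) : qV (t u + u) = bV u (t u + u) := by
  rw [qV_add, ht.iso, bV_add_right, bV_self, add_zero, bV_comm u]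
  have := h2zero (qV u)
  rw [this, zero_add]

/-- `1 + t` as a homomorphism. -/
def move : V8 →+ V8 where
  toFun u := t u + u
  map_zero' := by rw [ht.zero, add_zero]
  map_add' u v := by rw [ht.add]; abel

theorem card_move : Nat.card ht.move.range ≤ 16 ∧
    Nat.card ht.move.range * Nat.card ht.move.ker = 256 := by
  have h := AddSubgroup.card_eq_card_quotient_mul_card_addSubgroup ht.move.ker
  rw [Nat.card_congr (QuotientAddGroup.quotientKerEquivRange ht.move).toEquiv,
    show Nat.card V8 = 256 by simp [Nat.card_eq_fintype_card]] at h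
  refine ⟨?_, h.symm⟩
  have hle : ht.move.range ≤ ht.move.ker := by
    rintro _ ⟨u, rfl⟩
    show t (t u + u) + (t u + u) = 0
    rw [ht.fix_moved, add_self]
  have := AddSubgroup.card_le_of_le hle
  nlinarith

theorem card_move_le_eight (h : 32 ≤ Nat.card ht.move.ker) : Nat.card ht.move.range ≤ 8 := by
  have := ht.card_move.2
  nlinarith

/-- If `t` moves into `{0, u}` it is trivial or the transvection of `u`. -/
theorem eq_refl {u : V8} (h : ∀ v, t v + v = 0 ∨ t v + v = u) (hne : ∃ v, t v ≠ v) :
    qV u = 1 ∧ ∀ v, t v = refl u v := by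
  obtain ⟨v₀, hv₀⟩ := hne
  have hu : t v₀ + v₀ = u := (h v₀).resolve_left fun e => hv₀ (v8_eq_of_add e)
  have hu0 : u ≠ 0 := fun e => hv₀ (v8_eq_of_add (hu.trans e))
  have hall : ∀ v, t v + v = u → qV u = bV v u := fun v e => by rw [← e]; exact ht.qV_moved v
  have hzero : ∀ v, t v + v = 0 → bV u v = 0 := fun v e => by
    rw [← hu, ht.adj_sub, e, bV_zero_right]
  have hq : qV u = 1 := by
    by_contra hq
    have hq0 : qV u = 0 := (zmod_cases _).resolve_right hq
    refine hu0 (bV_nondeg u fun v => ?_)
    rcases h v with e | e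
    · exact hzero v e
    · rw [bV_comm, ← hall v e, hq0]
  refine ⟨hq, fun v => ?_⟩
  rcases h v with e | e
  · rw [refl_of_orth (hzero v e), v8_eq_of_add e]
  · have hb : bV u v = 1 := by rw [bV_comm, ← hall v e, hq]
    simp only [refl, hb, one_ne_zero, if_false]
    rw [← e, ← add_assoc, add_comm v, add_assoc, add_self, add_zero]

end Inv8

/-- An isometry fixing `e₀` and acting trivially on `e₀^⊥ / e₀` is a Siegel map. -/
theorem exists_siegel {g : V8 → V8} (hadd : ∀ u v, g (u + v) = g u + g v)
    (hq : ∀ v, qV (g v) = qV v) (he : g e₀ = e₀) (hW : ∀ w, (g (emb w)).2.2 = w) :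
    ∃ a, ∀ v, g v = siegel a v := by
  have h0 : g 0 = 0 := by
    have := hadd 0 0
    rw [add_zero] at this
    exact left_eq_add.1 this
  have hform : ∀ w, g (emb w) = emb w + ((g (emb w)).1, 0, 0) := by
    intro w
    have h2 : (g (emb w)).2.1 = 0 := by
      have h := hq (emb w + e₀)
      rw [hadd, he, qV_add, qV_add, hq] at h
      have h' := add_left_cancel h
      rw [bV_comm, bV_e₀, bV_comm, bV_e₀] at h'
      simpa [emb] using h'
    exact Prod.ext (by simp [emb]) (Prod.ext (by rw [h2]; simp [emb]) (by rw [hW]; simp [emb]))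
  set f : W6 → ZMod 2 := fun w => (g (emb w)).1 with hf
  have hlin : ∀ w w', f (w + w') = f w + f w' := fun w w' => by
    simp [hf, show emb (w + w') = emb w + emb w' by simp [emb], hadd]
  have hf0 : f 0 = 0 := by
    have := hlin 0 0
    rw [add_zero] at this
    exact left_eq_add.1 this
  have hsm : ∀ (k : ZMod 2) (u : W6), f (k • u) = k * f u := by
    intro k u
    rcases zmod_cases k with rfl | rfl <;> simp [hf0]
  refine ⟨((f ((0, 1), (0, 0), (0, 0)), f w₁), (f ((0, 0), (0, 1), (0, 0)), f w₂),
    (f ((0, 0), (0, 0), (0, 1)), f w₃)), eq_siegel hadd hq he fun w => ?_⟩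
  rw [hform w]
  congr 1
  refine Prod.ext ?_ rfl
  show f w = _
  conv_lhs => rw [six_decomp w]
  simp only [hlin, hsm, bW, bH, g₁]
  ring

/-- The root element of the line `⟨emb w₁, emb w₂⟩`. -/
def tL (u : V8) : V8 := u + bV u (emb w₁) • emb w₂ + bV u (emb w₂) • emb w₁

theorem tL_add : ∀ x y, tL (x + y) = tL x + tL y := by
  intro x y
  simp only [tL, bV_add_left, add_smul]
  abel

theorem tL_facts : (∀ v : V8, tL (tL v) = v ∧ qV (tL v) = qV v) ∧ tL e₀ = e₀ := by
  have h : ∀ a b : ZMod 2, ∀ w : W6, tL (tL (a, b, w)) = (a, b, w) ∧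
      qV (tL (a, b, w)) = qV (a, b, w) := by decide +kernel
  exact ⟨fun v => h v.1 v.2.1 v.2.2, by decide +kernel⟩

/-- In the case with a singular moved plane, the induced map on `e₀^⊥/e₀` is `tL`. -/
theorem induced_eq {T : W6 → W6} (hadd : ∀ x y, T (x + y) = T x + T y)
    (hq : ∀ x, qW (T x) = qW x) (hinv : ∀ x, T (T x) = x)
    (hM : ∀ x, ∃ l m : ZMod 2, T x + x = l • w₁ + m • w₂) (hne : ∃ x, T x ≠ x) (x : W6) :
    emb (T x) = tL (emb x) := by
  set g₂ : W6 := ((0, 0), (0, 1), (0, 0)) with hg₂
  have hbil : ∀ u v, bW (T u) (T v) = bW u v := by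
    intro u v
    have h := hq (u + v)
    rw [hadd, qW_add, qW_add, hq, hq] at h
    exact add_left_cancel h
  have hadj : ∀ u v, bW (T u + u) v = bW u (T v + v) := by
    intro u v
    have := hbil u (T v)
    rw [hinv] at this
    rw [bW_add_left, bW_add_right, this]
  have hqq : ∀ u, qW (T u + u) = bW u (T u + u) := fun u => by
    rw [qW_add, hq, h2zero, zero_add, bW_add_right, bW_self, add_zero, bW_comm u]
  have rd : ∀ l m : ZMod 2, bW g₁ (l • w₁ + m • w₂) = l ∧ bW g₂ (l • w₁ + m • w₂) = m ∧
      qW (l • w₁ + m • w₂) = 0 := by decide +kernel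
  obtain ⟨a, b, hab⟩ := hM g₁
  obtain ⟨c, d, hcd⟩ := hM g₂
  have ha : a = 0 := by
    have := hqq g₁
    rw [hab, (rd a b).1, (rd a b).2.2] at this
    exact this.symm
  have hd : d = 0 := by
    have := hqq g₂
    rw [hcd, (rd c d).2.1, (rd c d).2.2] at this
    exact this.symm
  subst ha hd
  have hbc : b = c := by
    have := hadj g₁ g₂
    rw [hab, hcd, bW_comm, (rd 0 b).2.1, (rd c 0).1] at this
    exact this
  subst hbc
  have key : ∀ u, T u + u = (b * bW u w₂) • w₁ + (b * bW u w₁) • w₂ := by
    intro u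
    obtain ⟨l, m, hlm⟩ := hM u
    have hl := hadj u g₁
    rw [hlm, hab, bW_comm, (rd l m).1] at hl
    have hm := hadj u g₂
    rw [hlm, hcd, bW_comm, (rd l m).2.1] at hm
    rw [hlm, hl, hm]
    rcases zmod_cases b with rfl | rfl <;> simp [bW, bH]
  have hb : b = 1 := by
    refine (zmod_cases b).resolve_left fun h => ?_
    obtain ⟨u, hu⟩ := hne
    have := key u
    rw [h] at this
    exact hu (w6_eq_of_add (by simpa using this))
  subst hb
  have h1 : T x = x + ((1 * bW x w₂) • w₁ + (1 * bW x w₁) • w₂) := by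
    rw [← key x, add_comm (T x), ← add_assoc, add_self_w, zero_add]
  rw [h1]
  have e : ∀ w, bV (emb x) (emb w) = bW x w := fun w => by simp [bV, emb]
  simp only [tL, e, one_mul]
  rcases zmod_cases (bW x w₁) with h | h <;> rcases zmod_cases (bW x w₂) with k | k <;>
    simp [h, k, emb, Prod.ext_iff] <;> simp [w₁, w₂]

/-- The trichotomy for an involutory isometry with a moved singular point `e₀`. -/
theorem trichotomy {t : V8 → V8} (ht : Inv8 t) {u₀ : V8} (he : t u₀ + u₀ = e₀) :
    (∃ a, ∀ v, t v = siegel a v) ∨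
    (∃ m a, qW m = 1 ∧ ∀ v, t (siegel a v) = refl (emb m) v) ∨
    (16 ≤ Nat.card ht.move.range ∧ ∃ v₁ v₂ : V8, v₁.2.1 = 0 ∧ v₂.2.1 = 0 ∧
      (t v₁ + v₁).2.2 ≠ 0 ∧ (t v₂ + v₂).2.2 ≠ 0 ∧ (t v₁ + v₁).2.2 ≠ (t v₂ + v₂).2.2 ∧
      ∀ w, ∃ i j : ZMod 2,
        (t (emb w) + emb w).2.2 = i • (t v₁ + v₁).2.2 + j • (t v₂ + v₂).2.2) := by
  have hte : t e₀ = e₀ := by rw [← he, ht.fix_moved]
  have horth : ∀ v : V8, (t v).2.1 = v.2.1 := fun v => by
    rw [← bV_e₀, ← bV_e₀]
    conv_lhs => rw [← hte]
    exact ht.bil _ _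
  have hu₀ : bV u₀ e₀ = 0 := by rw [← he, ← ht.qV_moved, he, qV_e₀]
  set T : W6 → W6 := fun w => (t (emb w)).2.2 with hT
  have hTadd : ∀ x y, T (x + y) = T x + T y := fun x y => by
    simp [hT, show emb (x + y) = emb x + emb y by simp [emb], ht.add]
  have hTq : ∀ x, qW (T x) = qW x := fun x => by
    have h := ht.iso (emb x)
    simp [qV, horth] at h
    simpa [hT, emb] using h
  have hsplit : ∀ x, t (emb x) = (if (t (emb x)).1 = 0 then 0 else e₀) + emb (T x) := fun x => by
    have := horth (emb x)
    rcases zmod_cases (t (emb x)).1 with h | h <;>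
      simp only [h, one_ne_zero, if_false, if_true] <;>
      exact Prod.ext (by rw [h]; simp [emb, e₀]) (Prod.ext (by rw [this]; simp [emb, e₀])
        (by simp [hT, emb, e₀]))
  have hTinv : ∀ x, T (T x) = x := fun x => by
    have h := congrArg (fun v : V8 => v.2.2) (congrArg t (hsplit x))
    simp only [ht.invol, ht.add] at h
    have h3 : (t (if (t (emb x)).1 = 0 then 0 else e₀)).2.2 = 0 := by
      split_ifs
      · simp [ht.zero]
      · rw [hte]; rfl
    simp only [Prod.snd_add, h3, zero_add] at h
    exact h.symm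
  by_cases h0 : ∀ x, T x = x
  · exact Or.inl (exists_siegel ht.add ht.iso hte h0)
  push Not at h0
  obtain ⟨x₀, hx₀⟩ := h0
  by_cases h1 : ∀ x, T x + x = 0 ∨ T x + x = T x₀ + x₀
  · right; left
    set m := T x₀ + x₀ with hm
    have hqm : qW m = 1 := by
      refine (zmod_cases _).resolve_left fun hq0 => hx₀ (w6_eq_of_add (bW_nondeg _ fun y => ?_))
      have hadj : bW (T x₀ + x₀) y = bW x₀ (T y + y) := by
        have e1 : qW (T (x₀ + T y)) = qW (x₀ + T y) := hTq _
        rw [hTadd, hTinv, qW_add, qW_add, hTq, hTq] at e1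
        have e2 := e1
        simp only [bW_add_left, bW_add_right]
        have : ∀ p q r s : ZMod 2, p + q + r = p + q + s → r = s := by decide
        rw [this _ _ _ _ e2]
      rcases h1 y with e | e
      · rw [hadj, e]; simp [bW, bH]
      · rw [hadj, e]
        have h2 : qW m = bW x₀ m := by
          rw [hm, qW_add, hTq, h2zero, zero_add, bW_add_right, bW_self, add_zero, bW_comm x₀]
        rw [← h2, hq0]
    have hrefl : ∀ x, T x = x + (if bW m x = 0 then 0 else m) := by
      intro x
      have hqq : qW (T x + x) = bW x (T x + x) := by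
        rw [qW_add, hTq, h2zero, zero_add, bW_add_right, bW_self, add_zero, bW_comm x]
      have hTx : ∀ y : W6, T x + x = y → T x = x + y := fun y e => by
        rw [← e, add_comm (T x), ← add_assoc, add_self_w, zero_add]
      rcases h1 x with e | e
      · have hb : bW m x = 0 := by
          have e1 : qW (T (x₀ + T x)) = qW (x₀ + T x) := hTq _
          rw [hTadd, hTinv, qW_add, qW_add, hTq, hTq] at e1
          have : ∀ p q r s : ZMod 2, p + q + r = p + q + s → r = s := by decide
          rw [hm, bW_add_left, this _ _ _ _ e1, ← bW_add_right, e]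
          simp [bW, bH]
        simp [hb, hTx 0 e]
      · have hb : bW m x = 1 := by rw [bW_comm, ← e, ← hqq, e, hqm]
        simp [hb, hTx _ e]
    set g : V8 → V8 := fun v => refl (emb m) (t v) with hg
    have hqm' : qV (emb m) = 1 := by simp [qV, emb, hqm]
    obtain ⟨a, ha⟩ := exists_siegel (g := g) (fun u v => by simp [hg, ht.add, refl_add])
      (fun v => by rw [hg, refl_iso hqm', ht.iso])
      (by
        rw [hg]
        show refl (emb m) (t e₀) = e₀
        rw [hte, refl_of_orth]
        simp [bV, emb, e₀, bW, bH])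
      (fun x => by
        show (refl (emb m) (t (emb x))).2.2 = x
        have hb : bV (emb m) (t (emb x)) = bW m (T x) := by simp [bV, emb, horth, hT]
        have hb2 : bW m (T x) = bW m x := by
          rw [hrefl x]
          split_ifs with h <;> simp [bW_add_right, bW_self]
        simp only [refl, hb, hb2]
        have : (t (emb x)).2.2 = T x := rfl
        have hrx := hrefl x
        rcases zmod_cases (bW m x) with h | h <;> rw [h] at hrx <;>
          simp only [h, one_ne_zero, if_false, if_true] at hrx ⊢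
        · rw [add_zero] at hrx ⊢
          rw [this, hrx]
        · rw [Prod.snd_add, Prod.snd_add, this, hrx]
          simp [emb, add_assoc, add_self_w])
    refine ⟨m, a, hqm, fun v => ?_⟩
    have := ha (siegel a v)
    rw [siegel_siegel, add_self_w, siegel_zero] at this
    have h2 := congrArg (refl (emb m)) this
    simp only [hg, refl_refl] at h2
    exact h2
  · right; right
    push Not at h1
    obtain ⟨x₁, hx₁0, hx₁⟩ := h1
    have h22 : ∀ x, (t (emb x) + emb x).2.2 = T x + x := fun x => by simp [hT, emb]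
    set m₁ := T x₀ + x₀ with hm₁
    set m₂ := T x₁ + x₁ with hm₂
    have hm₁0 : m₁ ≠ 0 := fun e => hx₀ (w6_eq_of_add e)
    -- sixteen moved vectors
    obtain ⟨h, hh⟩ : ∃ h : V8, bV u₀ (t h + h) = 1 := by
      by_contra hno
      push Not at hno
      refine e₀_ne (bV_nondeg _ fun v => ?_)
      rw [← he, ht.adj_sub]
      exact (zmod_cases _).resolve_right (hno v)
    have hr : ∀ x, bV u₀ (t (emb x) + emb x) = 0 := fun x => by
      rw [← ht.adj_sub, he, bV_e₀]; rfl
    let f : ZMod 2 × ZMod 2 × ZMod 2 × ZMod 2 → V8 := fun p =>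
      p.1 • u₀ + p.2.1 • emb x₀ + p.2.2.1 • emb x₁ + p.2.2.2 • h
    have hsm : ∀ (k : ZMod 2) (u : V8), ht.move (k • u) = k • ht.move u := fun k u => by
      rcases zmod_cases k with rfl | rfl <;> simp
    have hinj : Function.Injective fun p => (⟨ht.move (f p), f p, rfl⟩ : ht.move.range) := by
      intro p p' e
      have e' : ht.move (f p) = ht.move (f p') := congrArg Subtype.val e
      have hval : ∀ p, ht.move (f p) = p.1 • e₀ + p.2.1 • (t (emb x₀) + emb x₀)
          + p.2.2.1 • (t (emb x₁) + emb x₁) + p.2.2.2 • (t h + h) := fun p => by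
        simp only [f, map_add, hsm]
        show _ • (t u₀ + u₀) + _ • (t (emb x₀) + emb x₀) + _ • (t (emb x₁) + emb x₁)
          + _ • (t h + h) = _
        rw [he]
      rw [hval, hval] at e'
      have hk4 : ∀ p : ZMod 2 × ZMod 2 × ZMod 2 × ZMod 2, bV u₀ (p.1 • e₀
          + p.2.1 • (t (emb x₀) + emb x₀) + p.2.2.1 • (t (emb x₁) + emb x₁)
          + p.2.2.2 • (t h + h)) = p.2.2.2 := by
        intro p
        have hs : ∀ (k : ZMod 2) (u v : V8), bV u (k • v) = k * bV u v := fun k u v => by
          rcases zmod_cases k with rfl | rfl <;> simp [bV_zero_right]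
        rw [bV_add_right, bV_add_right, bV_add_right, hs, hs, hs, hs, hr, hr, hh, hu₀]
        simp
      have e4 : p.2.2.2 = p'.2.2.2 := by rw [← hk4 p, ← hk4 p', e']
      rw [e4] at e'
      have e5 := add_right_cancel e'
      have e6 := congrArg (fun v : V8 => v.2.2) e5
      simp only [Prod.snd_add, Prod.smul_snd, h22, ← hm₁, ← hm₂, show e₀.2.2 = (0 : W6) from rfl,
        smul_zero, zero_add] at e6
      have hind : ∀ i j i' j' : ZMod 2, i • m₁ + j • m₂ = i' • m₁ + j' • m₂ → i = i' ∧ j = j' := by
        intro i j i' j' e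
        rcases zmod_cases i with rfl | rfl <;> rcases zmod_cases j with rfl | rfl <;>
          rcases zmod_cases i' with rfl | rfl <;> rcases zmod_cases j' with rfl | rfl <;>
          simp only [zero_smul, one_smul, zero_add, add_zero] at e <;>
          first
            | exact ⟨rfl, rfl⟩
            | exact absurd e hm₁0 | exact absurd e.symm hm₁0
            | exact absurd e hx₁0 | exact absurd e.symm hx₁0
            | exact absurd e hx₁ | exact absurd e.symm hx₁
            | exact absurd (w6_eq_of_add e) hx₁.symm | exact absurd (w6_eq_of_add e.symm) hx₁.symm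
            | exact absurd (self_eq_add_left.1 e) hm₁0
            | exact absurd (self_eq_add_right.1 e) hx₁0
            | exact absurd (left_eq_add.1 e) hx₁0 | exact absurd (left_eq_add.1 e.symm) hx₁0
            | exact absurd (right_eq_add.1 e) hm₁0 | exact absurd (right_eq_add.1 e.symm) hm₁0
      obtain ⟨e2, e3⟩ := hind _ _ _ _ e6
      rw [e2, e3] at e5
      have e7 := congrArg (fun v : V8 => v.1) (add_right_cancel (add_right_cancel e5))
      simp [e₀] at e7
      exact Prod.ext e7 (Prod.ext e2 (Prod.ext e3 e4))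
    have h16 : 16 ≤ Nat.card ht.move.range := by
      have := Nat.card_le_card_of_injective _ hinj
      simpa [Nat.card_eq_fintype_card] using this
    refine ⟨h16, emb x₀, emb x₁, rfl, rfl, by rwa [h22], by rwa [h22],
      by rw [h22, h22]; exact hx₁.symm, fun w => ?_⟩
    have hcard : Nat.card ht.move.range = 16 := le_antisymm ht.card_move.1 h16
    have hsurj : Function.Surjective fun p => (⟨ht.move (f p), f p, rfl⟩ : ht.move.range) :=
      ((Nat.bijective_iff_injective_and_card _).2 ⟨hinj, by
        rw [hcard]; simp [Nat.card_eq_fintype_card]⟩).2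
    obtain ⟨p, hp⟩ := hsurj ⟨t (emb w) + emb w, emb w, rfl⟩
    have hp' : ht.move (f p) = t (emb w) + emb w := congrArg Subtype.val hp
    have h4 : p.2.2.2 = 0 := by
      have := congrArg (bV u₀) hp'
      have hs : ∀ (k : ZMod 2) (u v : V8), bV u (k • v) = k * bV u v := fun k u v => by
        rcases zmod_cases k with rfl | rfl <;> simp [bV_zero_right]
      rw [hr] at this
      simp only [f, map_add, hsm] at this
      change bV u₀ (_ • (t u₀ + u₀) + _ • (t (emb x₀) + emb x₀) + _ • (t (emb x₁) + emb x₁)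
          + _ • (t h + h)) = 0 at this
      rw [bV_add_right, bV_add_right, bV_add_right, hs, hs, hs, hs, hr, hr, hh, he, hu₀] at this
      simpa using this
    refine ⟨p.2.1, p.2.2.1, ?_⟩
    rw [← hp']
    simp only [f, map_add, hsm, h4, zero_smul, add_zero, Prod.snd_add, Prod.smul_snd]
    change _ • (t u₀ + u₀).2.2 + _ • (t (emb x₀) + emb x₀).2.2 + _ • (t (emb x₁) + emb x₁).2.2 = _
    rw [he]
    simp [e₀]

end Cfsg.Agent.Lib.Co1Type47
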