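import Cfsg.Agent.Lib.Co1Type47.Basic

/-!
Two centres `z ≠ s` with `s ∈ O₂(C(z))`: the intersection of their cores is `⟨z, s⟩`, and each
`C(s) ∩ O₂(C(z))` induces the full Siegel group of the other centre's point.
-/

set_option autoImplicit false

namespace Cfsg.Agent.Lib.Co1Type47

open LargeExtra

variable {G : Type*} [Group G]

/-- Two orthogonal centres, each coordinatised so that the other is the point `e₀`. -/
structure Pair (z s : G) (Qf : G → Subgroup G) where
  core : IsCoreMap Qf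
  gz : Good (Qf z) z
  gs : Good (Qf s) s
  D : Data z (Qf z)
  D' : Data s (Qf s)
  s_mem : s ∈ Qf z
  z_mem : z ∈ Qf s
  phi_s : D.phi s = e₀
  phi'_z : D'.phi z = e₀

/-- Membership in the four-group `⟨z, s⟩`. -/
def InP (z s d : G) : Prop := d = 1 ∨ d = z ∨ d = s ∨ d = s * z

/-- The first-order description of a Siegel map on `e₀^⊥` determines it. -/
theorem eq_siegel {g : V8 → V8} (hadd : ∀ u v, g (u + v) = g u + g v)
    (hq : ∀ v, qV (g v) = qV v) {a : W6} (he : g e₀ = e₀)
    (hW : ∀ w, g (emb w) = emb w + (bW w a, 0, 0)) (v : V8) : g v = siegel a v := by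
  have h0 : g 0 = 0 := by
    have := hadd 0 0
    rw [add_zero] at this
    exact left_eq_add.1 this
  have horth : ∀ u : V8, u.2.1 = 0 → g u = siegel a u := by
    intro u hu
    have hu' : u = (if u.1 = 0 then 0 else e₀) + emb u.2.2 := by
      rcases zmod_cases u.1 with h | h <;> simp [h, emb, e₀, Prod.ext_iff, hu]
    rw [siegel_orth a hu]
    conv_lhs => rw [hu', hadd, hW]
    rw [← add_assoc]
    congr 1
    rcases zmod_cases u.1 with h | h
    · conv_rhs => rw [hu']
      simp [h, h0]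
    · conv_rhs => rw [hu']
      simp [h, he]
  have hbil : ∀ u w, bV (g u) (g w) = bV u w := by
    intro u w
    have := hq (u + w)
    rw [hadd, qV_add, qV_add, hq, hq] at this
    exact add_left_cancel this
  have hf : g f₀ = siegel a f₀ := by
    have hs : siegel a f₀ = (qW a, 1, a) := by simp [siegel, f₀, bW, bH]
    have h1 : (g f₀).2.1 = 1 := by
      have := hbil e₀ f₀
      rw [he, bV_e₀, bV_e₀] at this
      exact this
    have h2 : (g f₀).2.2 = a := by
      refine (add_eq_zero_iff_eq_neg.1 (bW_nondeg _ fun w => ?_)).trans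
        (neg_eq_of_add_eq_zero_left (add_self_w a))
      have := hbil f₀ (emb w)
      rw [hW] at this
      generalize g f₀ = u at this h1 ⊢
      simp only [bV, f₀, emb, Prod.fst_add, Prod.snd_add, zero_add, add_zero, zero_mul, one_mul,
        mul_zero, h1] at this
      rw [bW_add_left, bW_comm a w]
      simpa [bW, bH, add_comm] using this
    have h3 : (g f₀).1 = qW a := by
      have := hq f₀
      simp only [qV, h1, h2, mul_one] at this
      rw [show qW (f₀ : V8).2.2 = 0 by decide] at this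
      simp only [f₀, zero_mul, zero_add] at this
      have h2' : ∀ x y : ZMod 2, x + y = 0 → x = y := by decide
      exact h2' _ _ this
    rw [hs]
    exact Prod.ext h3 (Prod.ext h1 h2)
  rcases zmod_cases v.2.1 with h | h
  · exact horth v h
  · have hv : v = f₀ + (v + f₀) := by rw [add_comm v, ← add_assoc, add_self, zero_add]
    have h' : (v + f₀).2.1 = 0 := by simp [h, f₀]; decide
    have hadd' : ∀ x y : V8, siegel a (x + y) = siegel a x + siegel a y := by
      intro x y
      simp only [siegel, Prod.fst_add, Prod.snd_add, bW_add_left, add_smul, Prod.mk_add_mk,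
        Prod.mk.injEq, true_and]
      exact ⟨by ring, by abel⟩
    conv_lhs => rw [hv, hadd, hf, horth _ h', ← hadd', ← hv]

namespace Pair

variable {z s : G} {Qf : G → Subgroup G} (P : Pair z s Qf)

/-- The roles of the centres exchanged. -/
def swap : Pair s z Qf :=
  ⟨P.core, P.gs, P.gz, P.D', P.D, P.z_mem, P.s_mem, P.phi'_z, P.phi_s⟩

include P

theorem comm : s * z = z * s := P.gz.le_cent s P.s_mem

theorem zz : z * z = 1 := P.gz.x_sq

theorem ss : s * s = 1 := P.gs.x_sq

theorem z_ne_s : z ≠ s := fun e => e₀_ne (by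
  have h := P.D.phi_z P.gz
  subst e
  rwa [P.phi_s] at h)

theorem sz_sq : s * z * (s * z) = 1 := by
  calc s * z * (s * z) = s * (z * s) * z := by group
    _ = (s * s) * (z * z) := by rw [← P.comm]; group
    _ = 1 := by rw [P.ss, P.zz, one_mul]

theorem phi_sz : P.D.phi (s * z) = e₀ := by rw [P.D.phi_mul_z P.gz P.s_mem, P.phi_s]

theorem inP_iff {d : G} (hd : d ∈ Qf z) : InP z s d ↔ P.D.phi d = 0 ∨ P.D.phi d = e₀ := by
  constructor
  · rintro (rfl | rfl | rfl | rfl)
    · exact Or.inl (P.D.phi_one P.gz)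
    · exact Or.inl (P.D.phi_z P.gz)
    · exact Or.inr P.phi_s
    · exact Or.inr P.phi_sz
  · rintro (h | h)
    · rcases (P.D.phi_eq_zero d hd).1 h with e | e
      · exact Or.inl e
      · exact Or.inr (Or.inl e)
    · rcases P.D.eq_or_of_phi_eq P.gz hd P.s_mem (h.trans P.phi_s.symm) with e | e
      · exact Or.inr (Or.inr (Or.inl e))
      · exact Or.inr (Or.inr (Or.inr e))

theorem commute_s {q : G} (hq : q ∈ Qf z) : q * s = s * q ↔ (P.D.phi q).2.1 = 0 := by
  rw [P.D.comm_iff q hq s P.s_mem, P.phi_s, bV_comm, bV_e₀]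

/-- An element of `C(z)` fixing `e₀` can be corrected inside `O₂(C(z))` to fix `s`. -/
theorem exists_fix {c : G} (hc : c * z = z * c) (he : P.D.act c e₀ = e₀) :
    ∃ c', c' * z = z * c' ∧ c' * s = s * c' ∧ ∀ v, P.D.act c' v = P.D.act c v := by
  have h1 : P.D.phi (c * s * c⁻¹) = e₀ := by rw [P.D.act_phi c hc s P.s_mem, P.phi_s, he]
  rcases P.D.eq_or_of_phi_eq P.gz (P.gz.norm c hc s P.s_mem) P.s_mem (h1.trans P.phi_s.symm) with
    e | e
  · exact ⟨c, hc, conj_eq_iff_comm.1 e, fun v => rfl⟩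
  · obtain ⟨u, hu, hu'⟩ := P.D.phi_surj f₀
    have huc : u * z = z * u := P.gz.le_cent u hu
    refine ⟨u * c, by rw [mul_assoc, hc, ← mul_assoc, huc, mul_assoc], conj_eq_iff_comm.1 ?_,
      fun v => by rw [P.D.act_mul P.gz huc hc, P.D.act_of_mem P.gz hu]⟩
    have hus : u * s * u⁻¹ = s * z := by
      rw [P.D.conj_eq P.gz P.s_mem hu, hu', P.phi_s]
      rfl
    calc u * c * s * (u * c)⁻¹ = (u * (c * s * c⁻¹) * u⁻¹) := by group
      _ = (u * s * u⁻¹) * (u * z * u⁻¹) := by rw [e]; group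
      _ = s * (z * z) := by rw [hus, huc, mul_inv_cancel_right, mul_assoc]
      _ = s := by rw [P.zz, mul_one]

/-- `C(z, s)` is transitive on tuples with equal Gram data, one of them orthogonal to a
nonsingular vector of `e₀^⊥`. -/
theorem exists_map {n : ℕ} (v w : Fin n → W6)
    (hv : LinearIndependent (ZMod 2) (Fin.cons e₀ (fun i => emb (v i)) : Fin (n + 1) → V8))
    (hw : LinearIndependent (ZMod 2) (Fin.cons e₀ (fun i => emb (w i)) : Fin (n + 1) → V8))
    (hq : ∀ i, qW (v i) = qW (w i)) (hb : ∀ i j, bW (v i) (v j) = bW (w i) (w j))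
    (x : W6) (hx : qW x = 1) (hxw : ∀ i, bW x (w i) = 0) :
    ∃ c, c * z = z * c ∧ c * s = s * c ∧ P.D.act c e₀ = e₀ ∧
      ∀ i, P.D.act c (emb (v i)) = emb (w i) := by
  obtain ⟨c, hc, hcw⟩ := P.D.exists_map P.gz _ _ hv hw
    (fun i => by
      refine Fin.cases ?_ (fun j => ?_) i
      · rfl
      · simpa [qV, emb] using hq j)
    (fun i j => by
      refine Fin.cases ?_ (fun i' => ?_) i <;> refine Fin.cases ?_ (fun j' => ?_) j
      · rfl
      · simp [bV, emb, e₀, bW, bH]
      · simp [bV, emb, e₀, bW, bH]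
      · simpa [bV, emb] using hb i' j')
    (emb x) (by simp [qV, emb, hx])
    (fun i => by
      refine Fin.cases ?_ (fun j => ?_) i
      · simp [bV, emb, e₀, bW, bH]
      · simpa [bV, emb] using hxw j)
  have he : P.D.act c e₀ = e₀ := by simpa using hcw 0
  obtain ⟨c', h1, h2, h3⟩ := P.exists_fix hc he
  exact ⟨c', h1, h2, by rw [h3, he], fun i => by rw [h3]; simpa using hcw i.succ⟩

theorem sq_one_of_both {d : G} (h : d ∈ Qf z) (h' : d ∈ Qf s) : d * d = 1 := by
  rcases P.gz.sq_cases h with e | e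
  · exact e
  · rcases P.gs.sq_cases h' with e' | e'
    · exact e'
    · exact absurd (e.symm.trans e') P.z_ne_s

end Pair

theorem indep_pair {v : W6} (hv : v ≠ 0) :
    LinearIndependent (ZMod 2) (Fin.cons e₀ (fun i => emb (![v] i)) : Fin 2 → V8) := by
  rw [Fintype.linearIndependent_iff]
  intro g hg i
  simp [Fin.sum_univ_two, e₀, emb, Prod.ext_iff] at hg
  fin_cases i
  · exact hg.1
  · rcases hg.2 with h | h
    · exact h
    · exact absurd h (by simpa [Prod.ext_iff] using hv)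

theorem indep_triple {u v : W6} (hu : u ≠ 0) (hv : v ≠ 0) (huv : u ≠ v) :
    LinearIndependent (ZMod 2) (Fin.cons e₀ (fun i => emb (![u, v] i)) : Fin 3 → V8) := by
  rw [Fintype.linearIndependent_iff]
  intro g hg
  rw [Fin.sum_univ_three] at hg
  have h1 : g 0 • (1 : ZMod 2) + g 1 • (0 : ZMod 2) + g 2 • 0 = 0 := congrArg (fun x : V8 => x.1) hg
  have h2 : g 0 • (0 : W6) + g 1 • u + g 2 • v = 0 := congrArg (fun x : V8 => x.2.2) hg
  simp only [smul_eq_mul, mul_one, mul_zero, add_zero] at h1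
  rw [smul_zero, zero_add] at h2
  rcases zmod_cases (g 1) with h | h <;> rcases zmod_cases (g 2) with h' | h' <;>
    simp only [h, h', zero_smul, one_smul, zero_add, add_zero] at h2
  · intro i; fin_cases i <;> assumption
  · exact absurd h2 hv
  · exact absurd h2 hu
  · exact absurd ((add_eq_zero_iff_eq_neg.1 h2).trans (neg_eq_of_add_eq_zero_left (add_self_w v)))
      huv

theorem exists_partner_singular : ∀ w : W6, w ≠ 0 → qW w = 0 →
    ∃ f : W6, qW f = 0 ∧ bW w f = 1 := by decide +kernel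

theorem exists_orth_nonsingular : ∀ w : W6, ∃ x : W6, qW x = 1 ∧ bW x w = 0 := by decide +kernel

namespace Pair

variable {z s : G} {Qf : G → Subgroup G} (P : Pair z s Qf)
include P

/-- `O₂(C(z)) ∩ O₂(C(s)) = ⟨z, s⟩`. -/
theorem inP_of_both {d : G} (hd : d ∈ Qf z) (hd' : d ∈ Qf s) : InP z s d := by
  rw [P.inP_iff hd]
  have h2 : (P.D.phi d).2.1 = 0 := (P.commute_s hd).1 (P.gs.le_cent d hd')
  have hq : qV (P.D.phi d) = 0 := (P.D.sq_iff d hd).1 (P.sq_one_of_both hd hd')
  by_contra hno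
  set w := (P.D.phi d).2.2 with hw
  have hd0 : P.D.phi d = ((P.D.phi d).1, 0, w) := Prod.ext rfl (Prod.ext h2 rfl)
  have hw0 : w ≠ 0 := by
    intro h
    rw [h] at hd0
    rcases zmod_cases (P.D.phi d).1 with h1 | h1 <;> rw [h1] at hd0
    · exact hno (Or.inl hd0)
    · exact hno (Or.inr hd0)
  have hqw : qW w = 0 := by rw [hd0] at hq; simpa [qV] using hq
  obtain ⟨f, hf, hwf⟩ := exists_partner_singular w hw0 hqw
  have hf0 : f ≠ 0 := by rintro rfl; simp [bW, bH] at hwf
  obtain ⟨x, hx, hxf⟩ := exists_orth_nonsingular f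
  obtain ⟨c, hcz, hcs, he, hcf⟩ := P.exists_map ![w] ![f] (indep_pair hw0) (indep_pair hf0)
    (fun i => by fin_cases i; simp [hqw, hf])
    (fun i j => by fin_cases i; fin_cases j; simp [bW, bH]; ring_nf; simp [(by decide : (2 : ZMod 2) = 0)])
    x hx (fun i => by fin_cases i; simpa using hxf)
  have hd1 : c * d * c⁻¹ ∈ Qf z := P.gz.norm c hcz d hd
  have hd1' : c * d * c⁻¹ ∈ Qf s := P.gs.norm c hcs d hd'
  have hb : bV (P.D.phi d) (P.D.phi (c * d * c⁻¹)) = 0 := by
    have h := (P.D.sq_iff _ (mul_mem hd hd1)).1 (P.sq_one_of_both (mul_mem hd hd1) (mul_mem hd' hd1'))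
    rw [P.D.phi_mul _ hd _ hd1, qV_add, hq, (P.D.sq_iff _ hd1).1 (P.sq_one_of_both hd1 hd1'),
      zero_add, zero_add] at h
    exact h
  have hfd : P.D.act c (P.D.phi d) = ((P.D.phi d).1, 0, f) := by
    have hsplit : P.D.phi d = (if (P.D.phi d).1 = 0 then 0 else e₀) + emb w := by
      conv_lhs => rw [hd0]
      rcases zmod_cases (P.D.phi d).1 with h1 | h1 <;> simp [h1, emb, e₀, Prod.ext_iff]
    conv_lhs => rw [hsplit, P.D.act_add hcz (fun a ha => P.gz.norm c hcz a ha)]
    have := hcf 0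
    simp only [Matrix.cons_val_fin_one] at this
    rw [this]
    rcases zmod_cases (P.D.phi d).1 with h1 | h1 <;> simp only [h1, one_ne_zero, if_false, if_true]
    · rw [P.D.act_zero P.gz hcz, zero_add]; rfl
    · rw [he]; simp [emb, e₀]
  rw [P.D.act_phi c hcz d hd, hfd, hd0] at hb
  simp [bV, hwf] at hb

/-! ### The induced Siegel group -/

/-- The Siegel parameter of `b ∈ O₂(C(s)) ∩ C(z)`. -/
def alpha (b : G) : W6 := (P.D.act b f₀).2.2

/-- `b ∈ O₂(C(s)) ∩ C(z)`. -/
def InB (b : G) : Prop := b ∈ Qf s ∧ b * z = z * b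

theorem act_eq {b : G} (hb : b ∈ Qf s) (hbz : b * z = z * b) (v : V8) :
    P.D.act b v = siegel (P.alpha b) v := by
  have hbs : b * s = s * b := P.gs.le_cent b hb
  have hadd := P.D.act_add hbz (fun a ha => P.gz.norm b hbz a ha)
  have he : P.D.act b e₀ = e₀ := by
    rw [← P.phi_s, ← P.D.act_phi b hbz s P.s_mem, conj_eq_iff_comm.2 hbs]
  have hW : ∀ w, ∃ t : ZMod 2, P.D.act b (emb w) = emb w + (t, 0, 0) := by
    intro w
    obtain ⟨q, hq, hqw⟩ := P.D.phi_surj (emb w)
    have hqs : q * s = s * q := (P.commute_s hq).2 (by rw [hqw]; rfl)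
    have h1 : b * q * b⁻¹ * q⁻¹ ∈ Qf z := mul_mem (P.gz.norm b hbz q hq) (inv_mem hq)
    have h2 : b * q * b⁻¹ * q⁻¹ ∈ Qf s := by
      have h := mul_mem hb (P.gs.norm q hqs _ (inv_mem hb))
      simpa [mul_assoc] using h
    have h3 := (P.inP_iff h1).1 (P.inP_of_both h1 h2)
    rw [P.D.phi_mul _ (P.gz.norm b hbz q hq) _ (inv_mem hq), P.D.act_phi b hbz q hq,
      P.D.phi_inv P.gz hq, hqw] at h3
    rcases h3 with h | h
    · exact ⟨0, by rw [add_eq_zero.1 h]; simp [emb, Prod.ext_iff]⟩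
    · refine ⟨1, ?_⟩
      have : P.D.act b (emb w) = e₀ + emb w := by rw [← h, add_assoc, add_self, add_zero]
      rw [this, add_comm]; rfl
  choose t ht using hW
  have hlin : ∀ w w', t (w + w') = t w + t w' := by
    intro w w'
    have h1 : emb (w + w') = emb w + emb w' := by simp [emb, Prod.ext_iff]
    have h2 := ht (w + w')
    rw [h1, hadd, ht, ht] at h2
    have h3 := congrArg (fun u : V8 => u.1) h2
    simpa [emb] using h3.symm
  obtain ⟨a, ha⟩ : ∃ a : W6, ∀ w, t w = bW w a := by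
    refine ⟨((t ((0, 1), (0, 0), (0, 0)), t ((1, 0), (0, 0), (0, 0))),
      (t ((0, 0), (0, 1), (0, 0)), t ((0, 0), (1, 0), (0, 0))),
      (t ((0, 0), (0, 0), (0, 1)), t ((0, 0), (0, 0), (1, 0)))), fun w => ?_⟩
    have h0 : t 0 = 0 := by
      have := hlin 0 0
      rw [add_zero] at this
      exact left_eq_add.1 this
    have hsm : ∀ (k : ZMod 2) (u : W6), t (k • u) = k * t u := by
      intro k u
      rcases zmod_cases k with rfl | rfl <;> simp [h0]
    have hw : w = w.1.1 • ((1, 0), (0, 0), (0, 0)) + w.1.2 • ((0, 1), (0, 0), (0, 0))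
        + w.2.1.1 • ((0, 0), (1, 0), (0, 0)) + w.2.1.2 • ((0, 0), (0, 1), (0, 0))
        + w.2.2.1 • ((0, 0), (0, 0), (1, 0)) + w.2.2.2 • (((0, 0), (0, 0), (0, 1)) : W6) := by
      simp [Prod.ext_iff]
    conv_lhs => rw [hw]
    simp only [hlin, hsm, bW, bH]
    ring
  have key := eq_siegel hadd (P.D.act_iso b hbz) he (a := a) (fun w => by rw [ht, ha])
  have : P.alpha b = a := by rw [alpha, key]; simp [siegel, f₀]
  rw [this]; exact key v

theorem alpha_eq_of {b : G} (hb : b ∈ Qf s) (hbz : b * z = z * b) {a : W6}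
    (h : ∀ w, (P.D.act b (emb w)).1 = bW w a) : P.alpha b = a := by
  refine (add_eq_zero_iff_eq_neg.1 (bW_nondeg _ fun w => ?_)).trans
    (neg_eq_of_add_eq_zero_left (add_self_w a))
  have h1 := h w
  rw [P.act_eq hb hbz] at h1
  rw [bW_add_left, bW_comm (P.alpha b), bW_comm a, ← h1]
  simp [siegel, emb]
  exact (by decide : ∀ x : ZMod 2, x + x = 0) _

theorem alpha_mul {b b' : G} (hb : b ∈ Qf s) (hbz : b * z = z * b) (hb' : b' ∈ Qf s)
    (hbz' : b' * z = z * b') : P.alpha (b * b') = P.alpha b + P.alpha b' := by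
  rw [alpha, P.D.act_mul P.gz hbz hbz', P.act_eq hb' hbz', P.act_eq hb hbz, siegel_siegel]
  simp [siegel, f₀]

theorem alpha_conj {b c : G} (hb : b ∈ Qf s) (hbz : b * z = z * b) (hcz : c * z = z * c)
    (hcs : c * s = s * c) :
    P.alpha (c * b * c⁻¹) = (P.D.act c (emb (P.alpha b))).2.2 := by
  have hcb : c * b * c⁻¹ * z = z * (c * b * c⁻¹) :=
    ((Commute.mul_left (Commute.mul_left hcz hbz) (Commute.inv_left hcz)) :)
  refine P.alpha_eq_of (P.gs.norm c hcs b hb) hcb fun w => ?_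
  have hci : c⁻¹ * z = z * c⁻¹ := (Commute.inv_left hcz :)
  have hadd := P.D.act_add hcz (fun a ha => P.gz.norm c hcz a ha)
  have he : P.D.act c e₀ = e₀ := by
    rw [← P.phi_s, ← P.D.act_phi c hcz s P.s_mem, conj_eq_iff_comm.2 hcs]
  rw [P.D.act_mul P.gz ((Commute.mul_left hcz hbz) :) hci, P.D.act_mul P.gz hcz hbz,
    P.act_eq hb hbz]
  set u := P.D.act c⁻¹ (emb w) with hu
  have hcu : P.D.act c u = emb w := by
    rw [hu, ← P.D.act_mul P.gz hcz hci, mul_inv_cancel, P.D.act_one P.gz]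
  have hu2 : u.2.1 = 0 := by
    rw [← bV_e₀, ← P.D.act_bil P.gz hcz, he, hcu, bV_e₀]; rfl
  rw [siegel_orth _ hu2, hadd, hcu]
  have hb' : bW u.2.2 (P.alpha b) = bW w (P.D.act c (emb (P.alpha b))).2.2 := by
    have h1 := P.D.act_bil P.gz hcz u (emb (P.alpha b))
    rw [hcu] at h1
    have h2 : (P.D.act c (emb (P.alpha b))).2.1 = 0 := by
      rw [← bV_e₀]
      conv_lhs => rw [← he]
      rw [P.D.act_bil P.gz hcz, bV_e₀]; rfl
    simp [bV, emb, hu2] at h1
    rw [← h1]
    rfl
  rcases zmod_cases (bW u.2.2 (P.alpha b)) with h | h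
  · rw [h] at hb' ⊢
    rw [Prod.mk_zero_zero, Prod.mk_zero_zero, P.D.act_zero P.gz hcz, add_zero, ← hb']
    rfl
  · rw [h] at hb' ⊢
    rw [show ((1, 0, 0) : V8) = e₀ from rfl, he, ← hb']
    rfl

theorem mem_of_alpha_eq_zero {b : G} (hb : b ∈ Qf s) (hbz : b * z = z * b) (h : P.alpha b = 0) :
    InP z s b :=
  P.inP_of_both (P.D.act_eq_id b hbz fun v => by rw [P.act_eq hb hbz, h, siegel_zero]) hb

end Pair

end Cfsg.Agent.Lib.Co1Type47
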