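import Cfsg.Agent.Lib.Co1Type47.Step
import Cfsg.Agent.Lib.Co1Type47.Hard

/-!
Every involution commuting with a centre is conjugate to `z` or into some `X`.
-/

set_option autoImplicit false
set_option synthInstance.maxSize 1024
set_option synthInstance.maxHeartbeats 200000

namespace Cfsg.Agent.Lib.Co1Type47

open LargeExtra

theorem swapOne_read : ∀ v : V8, (swapOne v).2.1 = bV v (emb w₁) ∧
    bW (swapOne v).2.2 w₂ = bV v (emb w₂) := by decide +kernel

theorem swapTwo_read : (swapTwo e₀).2.1 = 0 ∧ bW (swapTwo e₀).2.2 w₁ = 0 ∧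
    (swapTwo (emb w₁)).2.1 = 0 ∧ bW (swapTwo (emb w₁)).2.2 w₁ = 0 := by decide

theorem shift_W : ∀ a : W6, bW a w₁ = 0 → bW a w₂ = 0 →
    (tL (siegel a (tL f₀) + f₀)).2.2 = a := by decide +kernel

namespace Pair

variable {G : Type*} [Group G] {w s : G} {Qf : G → Subgroup G} (P : Pair w s Qf)
include P

theorem act_back {r : G} (P' : Pair w r Qf) (g : Iso) (h : P'.D = P.D.recoord g) (c : G) (u : V8) :
    g.map (P.D.act c u) = P'.D.act c (g.map u) := by
  rw [h]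
  show _ = g.map (P.D.act c (g.map.symm (g.map u)))
  rw [AddEquiv.symm_apply_apply]

/-- In standard coordinates the involution is a root element of the line times a Siegel map. -/
theorem standardise {x : G} (hxw : x * w = w * x) (hxx : x * x = 1) (h : HardPos P x) :
    ∃ (P' : Pair w s Qf) (a : W6), ∀ v, P'.D.act x (tL v) = siegel a v := by
  obtain ⟨u₀, he⟩ := h.point
  obtain ⟨v₁, v₂, k1, k2, k3, k4, k5, q1, q2, hspan⟩ := h.plane
  have ht := P.D.inv8 P.gz hxw hxx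
  have hse := fun v => ht.snd_eq he v
  obtain ⟨m₁, hm₁⟩ : ∃ m, m = (P.D.act x v₁ + v₁).2.2 := ⟨_, rfl⟩
  obtain ⟨m₂, hm₂⟩ : ∃ m, m = (P.D.act x v₂ + v₂).2.2 := ⟨_, rfl⟩
  rw [← hm₁] at k3 k5 hspan
  rw [← hm₂] at k4 k5 hspan
  have hb12 : bW m₁ m₂ = 0 := by
    have h := ht.moved_orth v₁ v₂
    simp only [bV, hse, mul_zero, zero_mul, zero_add] at h
    rw [hm₁, hm₂]; exact h
  have hqm₁ : qW m₁ = 0 := by
    simp only [qV, hse, mul_zero, zero_add] at q1
    rw [hm₁]; exact q1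
  have hqm₂ : qW m₂ = 0 := by
    simp only [qV, hse, mul_zero, zero_add] at q2
    rw [hm₂]; exact q2
  obtain ⟨g, hg⟩ := witt (Fin.cons e₀ (fun i => emb (![m₁, m₂] i)) : Fin 3 → V8)
    (Fin.cons e₀ (fun i => emb (![w₁, w₂] i)) : Fin 3 → V8)
    (indep_triple k3 k4 k5) (indep_triple (by decide) (by decide) (by decide))
    (fun i => by
      refine Fin.cases ?_ (fun j => ?_) i
      · rfl
      · simp only [Fin.cons_succ]
        fin_cases j <;> simp [qV, emb, hqm₁, hqm₂] <;> rfl)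
    (fun i j => by
      refine Fin.cases ?_ (fun i' => ?_) i <;> refine Fin.cases ?_ (fun j' => ?_) j
      · rfl
      · simp [bV, emb, e₀, bW, bH]
      · simp [bV, emb, e₀, bW, bH]
      · simp only [Fin.cons_succ]
        fin_cases i' <;> fin_cases j' <;>
          simp [bV, emb, bW_self, hb12, bW_comm m₂ m₁] <;> rfl)
  have hge : g.map e₀ = e₀ := hg 0
  have hg₁ : g.map (emb m₁) = emb w₁ := hg 1
  have hg₂ : g.map (emb m₂) = emb w₂ := hg 2
  obtain ⟨P', hP'⟩ : ∃ P' : Pair w s Qf, P'.D = P.D.recoord g :=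
    ⟨{ P with
        D := P.D.recoord g
        phi_s := by rw [Data.recoord_phi, P.phi_s, hge] }, rfl⟩
  have hact : ∀ v, P'.D.act x (g.map v) = g.map (P.D.act x v) := fun v =>
    (P.act_back P' g hP' x v).symm
  have ht' := P'.D.inv8 P'.gz hxw hxx
  have he' : P'.D.act x (g.map u₀) + g.map u₀ = e₀ := by
    rw [hact, ← g.map.map_add, he, hge]
  have hse' := fun v => ht'.snd_eq he' v
  have hte := ht'.fix_e₀ he'
  have horth : ∀ v, (P'.D.act x v).2.1 = v.2.1 := fun v => v8_eq_of_add_snd (hse' v)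
  -- the induced map
  obtain ⟨T, hT⟩ : ∃ T : W6 → W6, ∀ u, T u = (P'.D.act x (emb u)).2.2 :=
    ⟨fun u => (P'.D.act x (emb u)).2.2, fun u => rfl⟩
  have hTadd : ∀ a b, T (a + b) = T a + T b := fun a b => by
    simp [hT, show emb (a + b) = emb a + emb b by simp [emb], ht'.add]
  have hTq : ∀ a, qW (T a) = qW a := fun a => by
    have h := ht'.iso (emb a)
    simp [qV, horth] at h
    simpa [hT, emb] using h
  have hTinv : ∀ a, T (T a) = a := fun a => by
    have h := ht'.invol (emb a)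
    rw [v8_moved_split (v := P'.D.act x (emb a)) (horth (emb a)), ht'.add] at h
    have h' := congrArg (fun v : V8 => v.2.2) h
    have h0 : (P'.D.act x ((P'.D.act x (emb a)).1 • e₀)).2.2 = 0 := by
      rcases zmod_cases (P'.D.act x (emb a)).1 with k | k <;> rw [k]
      · simp [ht'.zero]
      · rw [one_smul, hte]; rfl
    simp only [Prod.snd_add, h0, zero_add, ← hT] at h'
    exact h'
  have hM : ∀ a, ∃ l m : ZMod 2, T a + a = l • w₁ + m • w₂ := by
    intro a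
    obtain ⟨v, hv⟩ := g.map.surjective (emb a)
    have hv2 : v.2.1 = 0 := by rw [← bV_e₀, ← g.bil, hge, hv, bV_e₀]; rfl
    obtain ⟨i, j, hij⟩ := hspan v.2.2
    have hmv : P.D.act x v + v = (P.D.act x v + v).1 • e₀ + emb (i • m₁ + j • m₂) := by
      have hW : (P.D.act x v + v).2.2 = i • m₁ + j • m₂ := by
        conv_lhs => rw [v8_moved_split hv2, ht.move_add, ht.move_smul, ht.fix_e₀ he, add_self,
          smul_zero, zero_add, hij]
      rw [← hW]
      exact v8_moved_split (hse v)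
    have h2 := congrArg g.map hmv
    rw [g.map.map_add, ← hact, hv, g.map.map_add] at h2
    refine ⟨i, j, ?_⟩
    have h3 := congrArg (fun u : V8 => u.2.2) h2
    simp only [Prod.snd_add] at h3
    rw [hT]
    refine h3.trans ?_
    have hea : ∀ u u' : W6, emb (u + u') = emb u + emb u' := fun u u' => by simp [emb]
    have he0 : emb 0 = 0 := rfl
    have hke : (g.map ((P.D.act x v + v).1 • e₀)).2.2 = 0 := by
      rcases zmod_cases (P.D.act x v + v).1 with k | k <;> rw [k]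
      · simp
      · rw [one_smul, hge]; rfl
    have hlin : g.map (emb (i • m₁ + j • m₂)) = emb (i • w₁ + j • w₂) := by
      rcases zmod_cases i with rfl | rfl <;> rcases zmod_cases j with rfl | rfl <;>
        simp only [zero_smul, one_smul, zero_add, add_zero, he0, map_zero, hea, g.map.map_add,
          hg₁, hg₂]
    rw [hke, hlin, zero_add]
    rfl
  have hTne : ∃ a, T a ≠ a := by
    by_contra hno
    push Not at hno
    have hv : (g.map v₁).2.1 = 0 := by rw [← bV_e₀, ← hge, g.bil, bV_e₀, k1]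
    have h1 := congrArg g.map (v8_moved_split (hse v₁))
    rw [← hm₁, g.map.map_add, g.map.map_add, hg₁, ← hact] at h1
    have h2 := congrArg (fun u : V8 => u.2.2) h1
    rw [v8_moved_split hv, ht'.add] at h2
    have h3 : (g.map ((P.D.act x v₁ + v₁).1 • e₀)).2.2 = 0 := by
      rcases zmod_cases (P.D.act x v₁ + v₁).1 with k | k <;> rw [k]
      · simp
      · rw [one_smul, hge]; rfl
    have h4 : (P'.D.act x ((g.map v₁).1 • e₀)).2.2 = 0 := by
      rcases zmod_cases (g.map v₁).1 with k | k <;> rw [k]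
      · simp [ht'.zero]
      · rw [one_smul, hte]; rfl
    simp only [Prod.snd_add, h3, h4, ← hT, hno, zero_add] at h2
    simp [emb, e₀, add_self_w] at h2
    exact absurd h2.symm (by decide)
  have hind := induced_eq hTadd hTq hTinv hM hTne
  obtain ⟨a, ha⟩ := exists_siegel (g := fun v => P'.D.act x (tL v))
    (fun u v => by simp only [tL_add, ht'.add])
    (fun v => by rw [ht'.iso, (tL_facts.1 v).2])
    (by simp only [tL_facts.2, hte])
    (fun u => by simp only [← hind, ← hT, hTinv])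
  exact ⟨P', a, ha⟩
where
  v8_eq_of_add_snd {u v : V8} (h : (u + v).2.1 = 0) : u.2.1 = v.2.1 :=
    (by decide : ∀ p q : ZMod 2, p + q = 0 → p = q) _ _ h

theorem phi_bpow_mul {r : G} (hr : r ∈ Qf w) (k : ZMod 2) :
    P.D.phi (bpow (r * w) k) = k • P.D.phi r := by
  rcases zmod_cases k with rfl | rfl
  · simp [bpow, P.D.phi_one P.gz]
  · simp [bpow, P.D.phi_mul_z P.gz hr]

/-- A vanishing criterion for the sign of `Y`. -/
theorem lbit_eq_zero [Finite G] {b q Y r r₂ : G} (h : P.Line b q Y r) (Pr : Pair w r Qf)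
    (hY : Y ∈ Qf r) {a : W6} (ha₁ : bW a w₁ = 0) (ha₂ : bW a w₂ = 0) (hr₂ : r₂ ∈ Qf w)
    (hr₂phi : P.D.phi r₂ = emb w₂) {c : G} (hcw : c * w = w * c) (hcs : c * s = s * c)
    (hcr : c * r = r * c) (hact : ∀ v, P.D.act c v = siegel a v) {j : ZMod 2}
    (hj : Y * c * Y = c * bpow (r₂ * w) j) : P.lbit Y a = 0 := by
  obtain ⟨c₀, hc₀⟩ : ∃ c₀, c₀ = P.lift a := ⟨_, rfl⟩
  have hm : c₀ ∈ Qf s := hc₀ ▸ P.lift_mem a
  have hmw : c₀ * w = w * c₀ := hc₀ ▸ P.lift_comm a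
  have hma : P.alpha c₀ = a := hc₀ ▸ P.alpha_lift a
  have hi : c₀⁻¹ * w = w * c₀⁻¹ := (Commute.inv_left hmw :)
  have hqw : c₀⁻¹ * c ∈ Qf w := by
    refine P.D.act_eq_id _ (Commute.mul_left hi hcw :) fun v => ?_
    rw [P.D.act_mul P.gz hi hcw, hact, ← hma, ← P.act_eq hm hmw, P.D.act_inv_act P.gz hmw]
  have hrs : r * s = s * r := (P.commute_s h.hr).2 (by rw [h.hrphi]; rfl)
  have hc₀r : c₀ * r = r * c₀ := by
    refine conj_eq_iff_comm.1 ?_
    rw [P.comm_BQ hm hmw h.hr hrs, hma, show P.wPart r = w₁ by rw [wPart, h.hrphi]; rfl, bW_comm,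
      ha₁, bpow_zero, mul_one]
  have hqr : c₀⁻¹ * c * r = r * (c₀⁻¹ * c) :=
    (Commute.mul_left (Commute.inv_left hc₀r) hcr :)
  have h1 := Pr.comm_BQ hY h.hYz hqw hqr
  obtain ⟨k, hk⟩ : ∃ k, k = bW (Pr.wPart (c₀⁻¹ * c)) (Pr.alpha Y) := ⟨_, rfl⟩
  rw [← hk] at h1
  have h2 := P.lbit_spec h hm hmw (by rw [hma]; exact ha₁) (by rw [hma]; exact ha₂)
  rw [hma] at h2
  have hYi : Y⁻¹ = Y := inv_eq_of_mul_eq_one_right h.hY
  rw [hYi] at h1
  obtain ⟨l, hl⟩ : ∃ l, l = P.lbit Y a := ⟨_, rfl⟩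
  rw [← hl] at h2 ⊢
  have hcomm : bpow w l * (c₀⁻¹ * c) = (c₀⁻¹ * c) * bpow w l := by
    rcases bpow_cases w l with e | e <;> rw [e]
    · rw [one_mul, mul_one]
    · exact (P.gz.le_cent _ hqw).symm
  have h3 : Y * c * Y = c * (bpow w l * bpow (r * w) k) := by
    calc Y * c * Y = Y * c₀ * 1 * (c₀⁻¹ * c) * Y := by group
      _ = (Y * c₀ * Y) * (Y * (c₀⁻¹ * c) * Y) := by rw [← h.hY]; group
      _ = c₀ * (bpow w l * (c₀⁻¹ * c)) * bpow (r * w) k := by rw [h2, h1]; group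
      _ = _ := by rw [hcomm]; group
  have h4 : bpow w l * bpow (r * w) k = bpow (r₂ * w) j := mul_left_cancel (h3.symm.trans hj)
  have hbw : bpow w l ∈ Qf w := (bpow_cases w l).elim (fun e => by rw [e]; exact one_mem _)
    (fun e => by rw [e]; exact P.gz.x_mem)
  have hbr : bpow (r * w) k ∈ Qf w := (bpow_cases (r * w) k).elim
    (fun e => by rw [e]; exact one_mem _) (fun e => by rw [e]; exact mul_mem h.hr P.gz.x_mem)
  have h5 := congrArg P.D.phi h4
  rw [P.D.phi_mul _ hbw _ hbr, P.phi_bpow_mul h.hr, P.phi_bpow_mul hr₂, h.hrphi, hr₂phi] at h5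
  have h6 : P.D.phi (bpow w l) = 0 := (P.D.phi_eq_zero _ hbw).2 (bpow_cases w l)
  rw [h6, zero_add] at h5
  obtain ⟨hk0, hj0⟩ : k = 0 ∧ j = 0 :=
    (by decide : ∀ k j : ZMod 2, k • emb w₁ = j • emb w₂ → k = 0 ∧ j = 0) _ _ h5
  rw [hk0, hj0, bpow_zero, bpow_zero, mul_one] at h4
  exact (bpow_eq_one P.gz.x_ne).1 h4

end Pair

namespace Hyp

variable {G : Type*} [Group G] [Finite G] {z : G} {Qf : G → Subgroup G} (H : Hyp z Qf)
include H

/-- The irreducible shape, with the signs on the line. -/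
theorem exists_line {w s x : G} (hw : IsConj z w) (P : Pair w s Qf) (hxw : x * w = w * x)
    (hxs : x * s = s * x) (hxx : x * x = 1) {a : W6} (hP : ∀ v, P.D.act x (tL v) = siegel a v) :
    ∃ b q Y r, x = b * q * Y ∧ P.Line b q Y r ∧
      (∀ d ∈ Qf w, bV (P.D.phi d) (emb w₁) = 0 → bV (P.D.phi d) (emb w₂) = 0 → Y * d * Y = d) ∧
      P.lbit Y w₁ = 0 ∧ P.lbit Y w₂ = 0 := by
  obtain ⟨r, hr, hrphi⟩ := P.D.phi_surj (emb w₁)
  obtain ⟨r₂, hr₂, hr₂phi⟩ := P.D.phi_surj (emb w₂)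
  obtain ⟨-, Pr, hPr⟩ := H.pair_of hw (P.D.recoord swapOneIso) hr
    (by rw [Data.recoord_phi, hrphi]; exact swapOne_facts.1)
  obtain ⟨-, P₂, hP₂⟩ := H.pair_of hw (P.D.recoord swapTwoIso) hr₂
    (by rw [Data.recoord_phi, hr₂phi]; exact swapTwo_facts.1)
  have phiPr : ∀ d, Pr.D.phi d = swapOne (P.D.phi d) := fun d => by rw [hPr]; rfl
  have phiP₂ : ∀ d, P₂.D.phi d = swapTwo (P.D.phi d) := fun d => by rw [hP₂]; rfl
  have actPr : ∀ {c : G}, c ∈ Qf r → c * w = w * c → ∀ v,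
      P.D.act c v = swapOne.symm (siegel (Pr.alpha c) (swapOne v)) := fun {c} hc hcw v => by
    rw [← Pr.act_eq hc hcw, AddEquiv.eq_symm_apply]
    exact P.act_back Pr swapOneIso hPr c v
  have actP₂ : ∀ {c : G}, c ∈ Qf r₂ → c * w = w * c → ∀ v,
      P.D.act c v = swapTwo.symm (siegel (P₂.alpha c) (swapTwo v)) := fun {c} hc hcw v => by
    rw [← P₂.act_eq hc hcw, AddEquiv.eq_symm_apply]
    exact P.act_back P₂ swapTwoIso hP₂ c v
  -- the root element
  obtain ⟨Y, hY⟩ : ∃ Y, Y = Pr.lift w₂ := ⟨_, rfl⟩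
  have hYr : Y ∈ Qf r := hY ▸ Pr.lift_mem w₂
  have hYw : Y * w = w * Y := hY ▸ Pr.lift_comm w₂
  have hYa : Pr.alpha Y = w₂ := hY ▸ Pr.alpha_lift w₂
  have hYY : Y * Y = 1 := by
    rw [Pr.sq_B hYr hYw, hYa, show qW w₂ = 0 by decide, bpow_zero]
  have hYi : Y⁻¹ = Y := inv_eq_of_mul_eq_one_right hYY
  have hYact : ∀ v, P.D.act Y v = tL v := fun v => by
    rw [actPr hYr hYw, hYa]; exact swapOne_facts.2.2.1 v
  have hsr : s * r = r * s := (Pr.commute_s P.s_mem).2 (by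
    rw [phiPr, P.phi_s, swapOne_facts.2.1]; rfl)
  have hYs : Y * s = s * Y := conj_eq_iff_comm.1 (by
    rw [Pr.comm_BQ hYr hYw P.s_mem hsr, hYa,
      show Pr.wPart s = w₁ by rw [Pair.wPart, phiPr, P.phi_s, swapOne_facts.2.1]; rfl,
      show bW w₁ w₂ = 0 by decide, bpow_zero, mul_one])
  have hYQ : ∀ d ∈ Qf w, bV (P.D.phi d) (emb w₁) = 0 → bV (P.D.phi d) (emb w₂) = 0 →
      Y * d * Y = d := by
    intro d hd h1 h2
    have hdr : d * r = r * d := (Pr.commute_s hd).2 (by rw [phiPr, (swapOne_read _).1, h1])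
    have h := Pr.comm_BQ hYr hYw hd hdr
    rwa [hYi, hYa, show bW (Pr.wPart d) w₂ = 0 by
      rw [Pair.wPart, phiPr, (swapOne_read _).2, h2], bpow_zero, mul_one] at h
  -- the two halves
  have hxYw : x * Y * w = w * (x * Y) := (Commute.mul_left hxw hYw :)
  have hxYs : x * Y * s = s * (x * Y) := (Commute.mul_left hxs hYs :)
  obtain ⟨b, q, hb, hbw, hq, hqs, hxY⟩ := P.exists_parts hxYw hxYs (a := a) (fun v => by
    rw [P.D.act_mul P.gz hxw hYw, hYact, hP])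
  have hx : x = b * q * Y := by rw [← hxY, mul_assoc, hYY, mul_one]
  have hline : P.Line b q Y r := ⟨hb, hbw, hq, hqs, hYY, hYw, hYs, hYr, hr, Pr.gs, hrphi, hYact,
    by rw [← hx]; exact hxx⟩
  refine ⟨b, q, Y, r, hx, hline, hYQ, ?_, ?_⟩
  · obtain ⟨c, hc⟩ : ∃ c, c = Pr.lift w₁ := ⟨_, rfl⟩
    have hcr : c ∈ Qf r := hc ▸ Pr.lift_mem w₁
    have hcw : c * w = w * c := hc ▸ Pr.lift_comm w₁
    have hca : Pr.alpha c = w₁ := hc ▸ Pr.alpha_lift w₁
    have hcs : c * s = s * c := conj_eq_iff_comm.1 (by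
      rw [Pr.comm_BQ hcr hcw P.s_mem hsr, hca,
        show Pr.wPart s = w₁ by rw [Pair.wPart, phiPr, P.phi_s, swapOne_facts.2.1]; rfl,
        show bW w₁ w₁ = 0 by decide, bpow_zero, mul_one])
    refine P.lbit_eq_zero hline Pr hYr (by decide) (by decide) hr₂ hr₂phi hcw hcs
      (Pr.gs.le_cent c hcr) (fun v => by rw [actPr hcr hcw, hca]; exact swapOne_facts.2.2.2 v)
      (j := 0) ?_
    have h := Pr.conj_B hcr hcw hYr hYw
    rw [hYi, hYa, hca, show bW w₂ w₁ = 0 by decide, bpow_zero, mul_one] at h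
    rw [h, bpow_zero, mul_one]
  · obtain ⟨c, hc⟩ : ∃ c, c = P₂.lift w₁ := ⟨_, rfl⟩
    have hcr : c ∈ Qf r₂ := hc ▸ P₂.lift_mem w₁
    have hcw : c * w = w * c := hc ▸ P₂.lift_comm w₁
    have hca : P₂.alpha c = w₁ := hc ▸ P₂.alpha_lift w₁
    have hs₂ : s * r₂ = r₂ * s := (P₂.commute_s P.s_mem).2 (by
      rw [phiP₂, P.phi_s]; exact swapTwo_read.1)
    have hr₂r : r * r₂ = r₂ * r := (P₂.commute_s hr).2 (by
      rw [phiP₂, hrphi]; exact swapTwo_read.2.2.1)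
    have hcs : c * s = s * c := conj_eq_iff_comm.1 (by
      rw [P₂.comm_BQ hcr hcw P.s_mem hs₂, hca, Pair.wPart, phiP₂, P.phi_s, swapTwo_read.2.1,
        bpow_zero, mul_one])
    have hcr' : c * r = r * c := conj_eq_iff_comm.1 (by
      rw [P₂.comm_BQ hcr hcw hr hr₂r, hca, Pair.wPart, phiP₂, hrphi, swapTwo_read.2.2.2,
        bpow_zero, mul_one])
    obtain ⟨Y₂, hY₂⟩ : ∃ Y₂, Y₂ = P₂.lift w₂ := ⟨_, rfl⟩
    have hY₂r : Y₂ ∈ Qf r₂ := hY₂ ▸ P₂.lift_mem w₂
    have hY₂w : Y₂ * w = w * Y₂ := hY₂ ▸ P₂.lift_comm w₂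
    have hY₂a : P₂.alpha Y₂ = w₂ := hY₂ ▸ P₂.alpha_lift w₂
    have hY₂i : Y₂⁻¹ * w = w * Y₂⁻¹ := (Commute.inv_left hY₂w :)
    obtain ⟨d, hd⟩ : ∃ d, d = (Y₂⁻¹ * Y)⁻¹ := ⟨_, rfl⟩
    have hdw : d ∈ Qf w := by
      rw [hd]
      refine inv_mem (P.D.act_eq_id _ (Commute.mul_left hY₂i hYw :) fun v => ?_)
      rw [P.D.act_mul P.gz hY₂i hYw, hYact,
        show tL v = P.D.act Y₂ v by rw [actP₂ hY₂r hY₂w, hY₂a, swapTwo_facts.2.2.1],
        P.D.act_inv_act P.gz hY₂w]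
    have hYr₂ : Y * r₂ = r₂ * Y := conj_eq_iff_comm.1 (by
      rw [hYi]; exact hYQ r₂ hr₂ (by rw [hr₂phi]; decide) (by rw [hr₂phi]; decide))
    have hdr : d * r₂ = r₂ * d := by
      rw [hd]
      exact (Commute.inv_left (Commute.mul_left (Commute.inv_left (P₂.gs.le_cent _ hY₂r)) hYr₂) :)
    obtain ⟨j, hj⟩ : ∃ j, j = bW (P₂.wPart d) (P₂.alpha c) := ⟨_, rfl⟩
    have h1 := P₂.comm_BQ hcr hcw hdw hdr
    rw [← hj] at h1
    have h2 := P₂.conj_B hcr hcw hY₂r hY₂w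
    rw [hY₂a, hca, show bW w₂ w₁ = 0 by decide, bpow_zero, mul_one] at h2
    have hσY : Commute Y₂ (bpow (r₂ * w) j) := by
      rw [P₂.bpow_sz]
      exact P₂.commute_bpow hY₂w (P₂.gs.le_cent _ hY₂r) j j
    have hσc : Commute c (bpow (r₂ * w) j) := by
      rw [P₂.bpow_sz]
      exact P₂.commute_bpow hcw (P₂.gs.le_cent _ hcr) j j
    refine P.lbit_eq_zero hline Pr hYr (by decide) (by decide) hr₂ hr₂phi hcw hcs hcr'
      (fun v => by rw [actP₂ hcr hcw, hca]; exact swapTwo_facts.2.2.2 v) (j := j) ?_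
    calc Y * c * Y = Y₂ * (d⁻¹ * (c * d * c⁻¹)) * c * Y₂⁻¹ := by
          conv_lhs => arg 2; rw [← hYi]
          rw [show Y = Y₂ * d⁻¹ by rw [hd]; group]
          group
      _ = Y₂ * bpow (r₂ * w) j * c * Y₂⁻¹ := by rw [h1]; group
      _ = bpow (r₂ * w) j * (Y₂ * c * Y₂⁻¹) := by rw [hσY.eq]; group
      _ = c * bpow (r₂ * w) j := by rw [h2, hσc.eq]

/-- The irreducible shape does not occur. -/
theorem hard_case {w s x : G} (hw : IsConj z w) (P : Pair w s Qf) (hxw : x * w = w * x)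
    (hxx : x * x = 1) (hx1 : x ≠ 1) (hP : HardPos P x) : RedTo z Qf x := by
  obtain ⟨P, a, ha⟩ := P.standardise hxw hxx hP
  have hxs := hP.commS
  have hss : IsConj z s := H.isConj_of_mem hw P.s_mem P.ss P.gs.x_ne
  obtain ⟨b, q, Y, r, hx, hline, hYQ, hl₁, hl₂⟩ := H.exists_line hw P hxw hxs hxx ha
  obtain ⟨hv₁, hv₂, -, e1, e2⟩ := P.line_eqs hline hYQ
  obtain ⟨ha₁, ha₂⟩ := P.orth_line hline
  -- the sign on the third plane
  obtain ⟨lb, hlb⟩ : ∃ lb : H2 → ZMod 2, ∀ h, lb h = P.lbit Y ((0, 0), (0, 0), h) :=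
    ⟨fun h => P.lbit Y ((0, 0), (0, 0), h), fun h => rfl⟩
  have hemb : ∀ h : H2, bW (((0, 0), (0, 0), h) : W6) w₁ = 0 ∧ bW (((0, 0), (0, 0), h) : W6) w₂ = 0 :=
    by decide
  have hlbadd : ∀ h k, lb (h + k) = lb h + lb k := fun h k => by
    rw [hlb, hlb, hlb, ← P.lbit_add hline (hemb h).1 (hemb h).2 (hemb k).1 (hemb k).2]
    simp
  have hlb0 : lb 0 = 0 := by
    have := hlbadd 0 0
    rw [add_zero] at this
    exact left_eq_add.1 this
  obtain ⟨ν, hν⟩ : ∃ ν : H2, ν = (lb (0, 1), lb (1, 0)) := ⟨_, rfl⟩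
  have hlν : ∀ h, lb h = bH ν h := by
    have h11 : lb (1, 1) = lb (1, 0) + lb (0, 1) := by rw [← hlbadd]; simp
    have h00 : lb (0, 0) = 0 := hlb0
    intro h
    obtain ⟨i, j⟩ := h
    rw [hν]
    rcases zmod_cases i with rfl | rfl <;> rcases zmod_cases j with rfl | rfl <;>
      simp [bH, h11, h00, add_comm]
  have hl : ∀ u : W6, bW u w₁ = 0 → bW u w₂ = 0 → P.lbit Y u = bH ν u.2.2 := by
    intro u hu₁ hu₂
    obtain ⟨hu, -⟩ := orth_form u hu₁ hu₂
    have hk : ∀ k : ZMod 2, (bW (k • w₁) w₁ = 0 ∧ bW (k • w₁) w₂ = 0) ∧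
        (bW (k • w₂) w₁ = 0 ∧ bW (k • w₂) w₂ = 0) := by decide
    have h0 : P.lbit Y 0 = 0 := by
      have := P.lbit_add hline (x := 0) (y := 0) (by decide) (by decide) (by decide) (by decide)
      rw [add_zero] at this
      exact left_eq_add.1 this
    have hks : ∀ (k : ZMod 2), P.lbit Y (k • w₁) = 0 ∧ P.lbit Y (k • w₂) = 0 := fun k => by
      rcases zmod_cases k with rfl | rfl <;> simp [h0, hl₁, hl₂]
    conv_lhs => rw [hu]
    rw [P.lbit_add hline
        (by rw [bW_add_left, (hk _).1.1, (hk _).2.1, add_zero])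
        (by rw [bW_add_left, (hk _).1.2, (hk _).2.2, add_zero]) (hemb _).1 (hemb _).2,
      P.lbit_add hline (hk _).1.1 (hk _).1.2 (hk _).2.1 (hk _).2.2, (hks _).1, (hks _).2,
      ← hlb, hlν, zero_add, zero_add]
  have hbW : ∀ u u' : W6, bW u w₁ = 0 → bW u w₂ = 0 → bW u' w₁ = 0 → bW u' w₂ = 0 →
      bW u u' = bH u.2.2 u'.2.2 := fun u u' h1 h2 h3 h4 => by
    simp [bW, bH, w₁, w₂] at h1 h2 h3 h4
    simp [bW, bH, h1, h2, h3, h4]
  -- first centre
  by_cases ha0 : (P.alpha b).2.2 = 0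
  · obtain ⟨f, hf⟩ := P.fix_first hline ha0
    exact H.small hw P.D hxw hxx hx1 ⟨f, hx ▸ hf⟩
  -- second centre
  have second : ∀ {q' : G}, P.Line b q' Y r →
      (P.wPart q').2.2 + ν = 0 → bW (P.wPart q') w₁ = 0 → bW (P.wPart q') w₂ = 0 →
      ∀ {x' : G}, x' = b * q' * Y → x' * s = s * x' → x' * x' = 1 → x' ≠ 1 →
      RedTo z Qf x' := by
    intro q' hline' hv hq₁ hq₂ x' hx' hx's hx'x hx'1
    have hc : ∀ p, bW (P.wPart q') (Pair.fixPar p) + P.lbit Y (Pair.fixPar p) = 0 := fun p => by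
      obtain ⟨hp₁, hp₂⟩ := Pair.fixPar_orth p
      rw [hbW _ _ hq₁ hq₂ hp₁ hp₂, hl _ hp₁ hp₂]
      have : ∀ v ν u : H2, v + ν = 0 → bH v u + bH ν u = 0 := by decide
      exact this _ _ _ hv
    obtain ⟨f, hf⟩ := P.fix_second hline' hYQ hc
    exact H.small hss P.D' hx's hx'x hx'1 ⟨f, hx' ▸ hf⟩
  by_cases hv0 : (P.wPart q).2.2 + ν = 0
  · exact second hline hv0 hv₁ hv₂ hx hxs hxx hx1
  -- second centre of a conjugate
  obtain ⟨m, hm, hmf⟩ := P.D.phi_surj f₀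
  have hmw := P.gz.le_cent m hm
  have hms : m * s * m⁻¹ = s * w := by
    rw [P.D.conj_eq P.gz P.s_mem hm, hmf, P.phi_s]; rfl
  have hxi : x⁻¹ = x := inv_eq_of_mul_eq_one_right hxx
  have hYi : Y⁻¹ = Y := inv_eq_of_mul_eq_one_right hline.hY
  obtain ⟨x', hx'⟩ : ∃ x', x' = m * x * m⁻¹ := ⟨_, rfl⟩
  obtain ⟨d, hd⟩ : ∃ d, d = x⁻¹ * m * x * m⁻¹ := ⟨_, rfl⟩
  have hd1 : x⁻¹ * m * x ∈ Qf w := by
    simpa [hxi] using P.gz.norm x hxw m hm
  have hdm : d ∈ Qf w := hd ▸ mul_mem hd1 (inv_mem hm)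
  have hYd : Y * d * Y ∈ Qf w := by simpa [hYi] using P.gz.norm Y hline.hYz d hdm
  have hx'eq : x' = b * (q * (Y * d * Y)) * Y := by
    calc x' = x * d := by rw [hx', hd]; group
      _ = b * q * Y * d * (Y * Y) := by rw [hline.hY, mul_one, hx]
      _ = _ := by group
  have hx'xx : x' * x' = 1 := by
    rw [hx']
    calc m * x * m⁻¹ * (m * x * m⁻¹) = m * (x * x) * m⁻¹ := by group
      _ = 1 := by rw [hxx]; group
  have hx's : x' * s = s * x' := by
    have hsw : m * (s * w) * m⁻¹ = s := by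
      calc m * (s * w) * m⁻¹ = (m * s * m⁻¹) * (m * w * m⁻¹) := by group
        _ = s := by rw [hms, hmw, mul_inv_cancel_right, mul_assoc, P.zz, mul_one]
    have hc : x * (s * w) = (s * w) * x := (Commute.mul_right hxs hxw :)
    calc x' * s = (m * x * m⁻¹) * (m * (s * w) * m⁻¹) := by rw [hx', hsw]
      _ = m * (x * (s * w)) * m⁻¹ := by group
      _ = (m * (s * w) * m⁻¹) * (m * x * m⁻¹) := by rw [hc]; group
      _ = s * x' := by rw [hsw, hx']
  have hq's : q * (Y * d * Y) * s = s * (q * (Y * d * Y)) := by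
    have e : q * (Y * d * Y) = b⁻¹ * x' * Y⁻¹ := by rw [hx'eq]; group
    rw [e]
    exact (Commute.mul_left (Commute.mul_left (Commute.inv_left (P.gs.le_cent b hline.hb)) hx's)
      (Commute.inv_left hline.hYs) :)
  have hline' : P.Line b (q * (Y * d * Y)) Y r :=
    { hline with
      hq := mul_mem hline.hq hYd
      hqs := hq's
      hinv := by rw [← hx'eq]; exact hx'xx }
  have hactx : P.D.act x f₀ = siegel (P.alpha b) (tL f₀) := by
    have hqw := P.gz.le_cent q hline.hq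
    rw [hx, P.D.act_mul P.gz (Commute.mul_left hline.hbz hqw :) hline.hYz,
      P.D.act_mul P.gz hline.hbz hqw, P.D.act_of_mem P.gz hline.hq,
      P.act_eq hline.hb hline.hbz, hline.hYact]
  have hwq : P.wPart (q * (Y * d * Y)) = P.wPart q + P.alpha b := by
    have h1 : P.D.phi (Y * d * Y) = tL (P.D.phi d) := by
      rw [← hline.hYact, ← P.D.act_phi Y hline.hYz d hdm, hYi]
    have h2 : P.D.phi d = siegel (P.alpha b) (tL f₀) + f₀ := by
      rw [hd, P.D.phi_mul _ hd1 _ (inv_mem hm), P.D.phi_inv P.gz hm, hmf, ← hactx]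
      congr 1
      rw [hxi, ← hmf, ← P.D.act_phi x hxw m hm, hxi]
    rw [Pair.wPart, P.D.phi_mul _ hline.hq _ hYd, h1, h2, Prod.snd_add, Prod.snd_add,
      shift_W _ ha₁ ha₂]
    rfl
  by_cases hv1 : (P.wPart q).2.2 + (P.alpha b).2.2 + ν = 0
  · refine RedTo.of_conj (second hline' ?_ ?_ ?_ hx'eq hx's hx'xx ?_) (isConj_iff.2 ⟨m, hx'.symm⟩)
    · rw [hwq, Prod.snd_add, Prod.snd_add]; exact hv1
    · rw [hwq, bW_add_left, hv₁, ha₁, add_zero]
    · rw [hwq, bW_add_left, hv₂, ha₂, add_zero]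
    · intro e
      apply hx1
      calc x = m⁻¹ * x' * m := by rw [hx']; group
        _ = 1 := by rw [e]; group
  -- nothing is left
  exfalso
  rw [(orth_form _ ha₁ ha₂).2, hbW _ _ hv₁ hv₂ ha₁ ha₂] at e1
  rw [(orth_form _ hv₁ hv₂).2, hbW _ _ hv₁ hv₂ ha₁ ha₂, hl _ ha₁ ha₂] at e2
  exact no_irreducible _ ν _ ha0 (fun e => hv0 (by rw [← e]; abel))
    (fun e => hv1 (by rw [← e]; abel)) e1 e2

/-- Every involution commuting with a centre is reduced. -/
theorem reduce_at {w x : G} (hw : IsConj z w) (hxw : x * w = w * x) (hxx : x * x = 1)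
    (hx1 : x ≠ 1) : RedTo z Qf x := by
  obtain ⟨D⟩ := H.data_of hw
  rcases H.dichotomy hw D hxw hxx hx1 with h | ⟨-, s, P, hP⟩
  · exact h
  · exact H.hard_case hw P hxw hxx hx1 hP

end Hyp

end Cfsg.Agent.Lib.Co1Type47
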