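import Cfsg.Agent.Lib.Co1Type47.Centres
import Cfsg.Agent.Lib.Co1Type47.Involution

/-!
An involution commuting with a centre either lies in some `X`, or moves sixteen vectors and can be
put in a standard position.
-/

set_option autoImplicit false
set_option synthInstance.maxSize 1024
set_option synthInstance.maxHeartbeats 200000

namespace Cfsg.Agent.Lib.Co1Type47

open LargeExtra

/-- The first coordinate split off. -/
theorem v8_split (v : V8) :
    v = v.1 • e₀ + emb v.2.2 + v.2.1 • f₀ := by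
  simp [e₀, f₀, emb, Prod.ext_iff]

theorem v8_moved_split {v : V8} (h : v.2.1 = 0) : v = v.1 • e₀ + emb v.2.2 := by
  conv_lhs => rw [v8_split v, h, zero_smul, add_zero]

theorem bV_smul_left (k : ZMod 2) (u v : V8) : bV (k • u) v = k * bV u v := by
  rcases zmod_cases k with rfl | rfl <;> simp [bV_zero_left]

theorem bV_smul_right (k : ZMod 2) (u v : V8) : bV u (k • v) = k * bV u v := by
  rw [bV_comm, bV_smul_left, bV_comm]

theorem comb_ne_zero {m₁ m₂ : W6} (h1 : m₁ ≠ 0) (h2 : m₂ ≠ 0) (h : m₁ ≠ m₂) {i j : ZMod 2}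
    (hij : i • m₁ + j • m₂ = 0) : i = 0 ∧ j = 0 := by
  rcases zmod_cases i with rfl | rfl <;> rcases zmod_cases j with rfl | rfl <;>
    simp only [zero_smul, one_smul, zero_add, add_zero] at hij
  exacts [⟨rfl, rfl⟩, absurd hij h2, absurd hij h1, absurd (w6_eq_of_add hij) h]

namespace Inv8

variable {t : V8 → V8} (ht : Inv8 t)
include ht

theorem move_smul (k : ZMod 2) (u : V8) : t (k • u) + k • u = k • (t u + u) := by
  rcases zmod_cases k with rfl | rfl <;> simp [ht.zero]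

theorem move_add (u v : V8) : t (u + v) + (u + v) = (t u + u) + (t v + v) := by
  rw [ht.add]; abel

theorem fix_e₀ {u₀ : V8} (he : t u₀ + u₀ = e₀) : t e₀ = e₀ := by rw [← he, ht.fix_moved]

theorem snd_eq {u₀ : V8} (he : t u₀ + u₀ = e₀) (v : V8) : (t v + v).2.1 = 0 := by
  have h : (t v).2.1 = v.2.1 := by
    rw [← bV_e₀, ← bV_e₀]
    conv_lhs => rw [← ht.fix_e₀ he]
    exact ht.bil _ _
  simp only [Prod.snd_add, Prod.fst_add, h]
  exact h2zero _

/-- A moved point all of whose orthogonal moved vectors are singular. -/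
theorem exists_better {u₀ : V8} (he : t u₀ + u₀ = e₀) {v₁ v₂ : V8} (h₁ : v₁.2.1 = 0)
    (h₂ : v₂.2.1 = 0) (hm₁ : (t v₁ + v₁).2.2 ≠ 0) (hm₂ : (t v₂ + v₂).2.2 ≠ 0)
    (hne : (t v₁ + v₁).2.2 ≠ (t v₂ + v₂).2.2)
    (hspan : ∀ w, ∃ i j : ZMod 2,
      (t (emb w) + emb w).2.2 = i • (t v₁ + v₁).2.2 + j • (t v₂ + v₂).2.2) :
    ∃ u' : V8, t u' + u' ≠ 0 ∧ qV (t u' + u') = 0 ∧
      ∀ v, bV v (t u' + u') = 0 → qV (t v + v) = 0 := by
  have hse := fun v => ht.snd_eq he v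
  obtain ⟨M₁, hM₁⟩ : ∃ M, M = t v₁ + v₁ := ⟨_, rfl⟩
  obtain ⟨M₂, hM₂⟩ : ∃ M, M = t v₂ + v₂ := ⟨_, rfl⟩
  obtain ⟨K, hK⟩ : ∃ M, M = t f₀ + f₀ := ⟨_, rfl⟩
  rw [← hM₁] at hm₁ hne hspan
  rw [← hM₂] at hm₂ hne hspan
  -- pairings
  have b00 : bV u₀ e₀ = 0 := by rw [← he, ← ht.qV_moved, he, qV_e₀]
  have b01 : bV u₀ M₁ = 0 := by rw [hM₁, ← ht.adj_sub, he, bV_e₀, h₁]
  have b02 : bV u₀ M₂ = 0 := by rw [hM₂, ← ht.adj_sub, he, bV_e₀, h₂]
  have b03 : bV u₀ K = 1 := by rw [hK, ← ht.adj_sub, he, bV_e₀]; rfl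
  have b10 : bV v₁ e₀ = 0 := by rw [bV_comm, bV_e₀, h₁]
  have b20 : bV v₂ e₀ = 0 := by rw [bV_comm, bV_e₀, h₂]
  have b11 : bV v₁ M₁ = qV M₁ := by rw [hM₁, ht.qV_moved]
  have b22 : bV v₂ M₂ = qV M₂ := by rw [hM₂, ht.qV_moved]
  have b21 : bV v₂ M₁ = bV v₁ M₂ := by rw [hM₁, hM₂, ← ht.adj_sub, bV_comm]
  -- the moved space is spanned by `e₀, M₁, M₂, K`
  have hgen : ∀ y, ∃ r i j k : ZMod 2, t y + y = r • e₀ + i • M₁ + j • M₂ + k • K := by
    intro y
    obtain ⟨i, j, hij⟩ := hspan y.2.2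
    have hem : ∃ r : ZMod 2, t (emb y.2.2) + emb y.2.2 = r • e₀ + i • M₁ + j • M₂ := by
      refine ⟨(t (emb y.2.2) + emb y.2.2).1 + i * M₁.1 + j * M₂.1,
        Prod.ext ?_ (Prod.ext ?_ ?_)⟩
      · simp only [Prod.fst_add, Prod.smul_fst, smul_eq_mul, e₀, mul_one]
        exact (by decide : ∀ a b c : ZMod 2, a = a + b + c + b + c) _ _ _
      · rw [hse, hM₁, hM₂]
        simp only [Prod.snd_add, Prod.fst_add, Prod.smul_snd, Prod.smul_fst]
        have e1 : (t v₁).2.1 + v₁.2.1 = 0 := hse v₁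
        have e2 : (t v₂).2.1 + v₂.2.1 = 0 := hse v₂
        rw [e1, e2]; simp [e₀]
      · rw [hij]; simp [e₀]
    obtain ⟨r, hr⟩ := hem
    refine ⟨r, i, j, y.2.1, ?_⟩
    conv_lhs => rw [v8_split y, ht.move_add, ht.move_add, ht.move_smul, ht.move_smul,
      ht.fix_e₀ he, add_self, smul_zero, zero_add, hr, ← hK]
  by_cases hq : qV M₁ = 0 ∧ qV M₂ = 0
  · refine ⟨u₀, by rw [he]; exact e₀_ne, by rw [he, qV_e₀], fun v hv => ?_⟩
    rw [he, bV_comm, bV_e₀] at hv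
    obtain ⟨r, i, j, k, hy⟩ := hgen v
    have hk : k = 0 := by
      have h := congrArg (bV u₀) hy
      rw [← ht.adj_sub, he, bV_e₀, hv] at h
      simp only [bV_add_right, bV_smul_right, b00, b01, b02, b03] at h
      simpa using h.symm
    rw [hk, zero_smul, add_zero] at hy
    have hy' : t v + v = t (r • u₀ + i • v₁ + j • v₂) + (r • u₀ + i • v₁ + j • v₂) := by
      rw [ht.move_add, ht.move_add, ht.move_smul, ht.move_smul, ht.move_smul, he, ← hM₁, ← hM₂, hy]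
    rw [hy', ht.move_add, ht.qV_moved_add, ht.move_add, ht.qV_moved_add, ht.move_smul,
      ht.move_smul, ht.move_smul, he, ← hM₁, ← hM₂]
    rcases zmod_cases r with rfl | rfl <;> rcases zmod_cases i with rfl | rfl <;>
      rcases zmod_cases j with rfl | rfl <;> simp [qV_zero, qV_e₀, hq.1, hq.2]
  · have hdet : qV M₁ * qV M₂ + bV v₁ M₂ = 1 := by
      refine (zmod_cases _).resolve_left fun hd => ?_
      obtain ⟨a, b, hab, ha, hb⟩ : ∃ a b : ZMod 2, ¬ (a = 0 ∧ b = 0) ∧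
          a * qV M₁ + b * bV v₁ M₂ = 0 ∧ a * bV v₁ M₂ + b * qV M₂ = 0 :=
        (by decide : ∀ x y c : ZMod 2, x * y + c = 0 → ∃ a b : ZMod 2, ¬ (a = 0 ∧ b = 0) ∧
          a * x + b * c = 0 ∧ a * c + b * y = 0) _ _ _ hd
      obtain ⟨v, hv⟩ : ∃ v, v = a • v₁ + b • v₂ := ⟨_, rfl⟩
      obtain ⟨ε, hε⟩ : ∃ ε, ε = bV v K := ⟨_, rfl⟩
      have hm : t (v + ε • u₀) + (v + ε • u₀) = 0 := by
        refine bV_nondeg _ fun y => ?_
        obtain ⟨r, i, j, k, hy⟩ := hgen y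
        have hK' : bV v K + ε = 0 := by rw [hε]; exact h2zero _
        rw [ht.adj_sub, hy]
        simp only [bV_add_left, bV_add_right, bV_smul_left, bV_smul_right, b00, b01, b02, b03, hv,
          b10, b20, b11, b22, b21]
        rw [hv] at hK'
        simp only [bV_add_left, bV_smul_left] at hK'
        calc _ = r * 0 + i * (a * qV M₁ + b * bV v₁ M₂) + j * (a * bV v₁ M₂ + b * qV M₂)
              + k * (a * bV v₁ K + b * bV v₂ K + ε) := by ring
          _ = 0 := by rw [ha, hb, hK']; ring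
      have hW := congrArg (fun u : V8 => u.2.2) hm
      simp only [hv] at hW
      rw [ht.move_add, ht.move_add, ht.move_smul, ht.move_smul, ht.move_smul, he, ← hM₁, ← hM₂]
        at hW
      simp [e₀] at hW
      exact hab (comb_ne_zero hm₁ hm₂ hne hW)
    obtain ⟨ε, hε⟩ : ∃ ε, ε = qV K + (qV M₂ * bV v₁ K + qV M₁ * bV v₂ K) := ⟨_, rfl⟩
    obtain ⟨u', hu'⟩ : ∃ u', u' = qV M₂ • v₁ + qV M₁ • v₂ + ε • u₀ := ⟨_, rfl⟩
    have hmv : t u' + u' = qV M₂ • M₁ + qV M₁ • M₂ + ε • e₀ := by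
      rw [hu', ht.move_add, ht.move_add, ht.move_smul, ht.move_smul, ht.move_smul, he, ← hM₁, ← hM₂]
    refine ⟨u', fun h => ?_, ?_, fun v hv => ?_⟩
    · rw [hmv] at h
      have hW := congrArg (fun u : V8 => u.2.2) h
      simp [e₀] at hW
      exact hq ((comb_ne_zero hm₁ hm₂ hne hW).symm)
    · have h : qV (t u' + u') = qV (t (qV M₂ • v₁) + qV M₂ • v₁)
          + qV (t (qV M₁ • v₂) + qV M₁ • v₂) + qV (t (ε • u₀) + ε • u₀) := by
        rw [hu', ht.move_add, ht.move_add, ← ht.move_add, ht.qV_moved_add, ht.move_add,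
          ht.qV_moved_add]
      rw [h, ht.move_smul, ht.move_smul, ht.move_smul, he, ← hM₁, ← hM₂]
      rcases zmod_cases (qV M₁) with h1 | h1 <;> rcases zmod_cases (qV M₂) with h2 | h2 <;>
        rcases zmod_cases ε with h3 | h3 <;> simp [h1, h2, h3, qV_zero, qV_e₀, h2zero]
    · obtain ⟨r, i, j, k, hy⟩ := hgen v
      have h0 : bV u' (t v + v) = 0 := by rw [← ht.adj_sub, bV_comm]; exact hv
      have hy' : t v + v = t (r • u₀ + i • v₁ + j • v₂ + k • f₀)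
          + (r • u₀ + i • v₁ + j • v₂ + k • f₀) := by
        rw [hy, ht.move_add, ht.move_add, ht.move_add, ht.move_smul, ht.move_smul, ht.move_smul,
          ht.move_smul, he, ← hM₁, ← hM₂, ← hK]
      have e1 : qV (t v + v) = i * qV M₁ + j * qV M₂ + k * qV K := by
        rw [hy', ht.move_add, ht.qV_moved_add, ht.move_add, ht.qV_moved_add, ht.move_add,
          ht.qV_moved_add, ht.move_smul, ht.move_smul, ht.move_smul, ht.move_smul, he, ← hM₁, ← hM₂,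
          ← hK]
        have hs : ∀ (c : ZMod 2) (u : V8), qV (c • u) = c * qV u := fun c u => by
          rcases zmod_cases c with rfl | rfl <;> simp [qV_zero]
        simp only [hs, qV_e₀, mul_zero, zero_add]
      have e2 : bV u' (t v + v) = i * qV M₁ + j * qV M₂ + k * qV K := by
        rw [hy, hu']
        simp only [bV_add_left, bV_add_right, bV_smul_left, bV_smul_right, b00, b01, b02, b03, b10,
          b20, b11, b22, b21]
        have key : ∀ q1 q2 β K1 K2 qk ε : ZMod 2, q1 * q2 + β = 1 →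
            ε = qk + (q2 * K1 + q1 * K2) →
            q2 * q1 + q1 * β = q1 ∧ q2 * β + q1 * q2 = q2 ∧ q2 * K1 + q1 * K2 + ε = qk := by
          decide
        obtain ⟨k1, k2, k3⟩ := key _ _ _ _ _ _ _ hdet hε
        calc _ = i * (qV M₂ * qV M₁ + qV M₁ * bV v₁ M₂) + j * (qV M₂ * bV v₁ M₂ + qV M₁ * qV M₂)
              + k * (qV M₂ * bV v₁ K + qV M₁ * bV v₂ K + ε) := by ring
          _ = _ := by rw [k1, k2, k3]
      rw [e1, ← e2, h0]

end Inv8

variable {G : Type*} [Group G]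

/-- Conjugate to `z` or to an element of some `X`. -/
def RedTo (z : G) (Qf : G → Subgroup G) (x : G) : Prop :=
  ∃ y, IsConj x y ∧ (IsConj z y ∨ ∃ (w s : G) (P : Pair w s Qf) (b q : G), IsConj z w ∧
    b ∈ Qf s ∧ b * w = w * b ∧ q ∈ Qf w ∧ q * s = s * q ∧ y = b * q)

theorem RedTo.of_conj {z : G} {Qf : G → Subgroup G} {x y : G} (h : RedTo z Qf y)
    (hxy : IsConj x y) : RedTo z Qf x := by
  obtain ⟨y', hy, h'⟩ := h
  exact ⟨y', hxy.trans hy, h'⟩

/-- No thirty-two fixed vectors. -/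
def Big (t : V8 → V8) : Prop :=
  ∀ f : ZMod 2 × ZMod 2 × ZMod 2 × H2 → V8, Function.Injective f → ¬ ∀ p, t (f p) = f p

theorem Inv8.big {t : V8 → V8} (ht : Inv8 t) (h : 16 ≤ Nat.card ht.move.range) : Big t := by
  intro f hf hfix
  have hk : ∀ p, f p ∈ ht.move.ker := fun p => by
    show t (f p) + f p = 0
    rw [hfix, add_self]
  have h32 := Nat.card_le_card_of_injective (fun p => (⟨f p, hk p⟩ : ht.move.ker))
    (fun p p' e => hf (congrArg Subtype.val e))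
  have := ht.card_move_le_eight (by simpa [Nat.card_eq_fintype_card] using h32)
  omega

theorem Big.of_iso {t t' : V8 → V8} (g : Iso) (h : ∀ v, t' (g.map v) = g.map (t v)) (hb : Big t') :
    Big t := fun f hf hfix => hb (fun p => g.map (f p)) (g.map.injective.comp hf)
      fun p => by rw [h, hfix]

/-- A standard position of an involution moving sixteen vectors. -/
structure HardPos {w s : G} {Qf : G → Subgroup G} (P : Pair w s Qf) (x : G) : Prop where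
  commS : x * s = s * x
  point : ∃ u₀, P.D.act x u₀ + u₀ = e₀
  plane : ∃ v₁ v₂ : V8, v₁.2.1 = 0 ∧ v₂.2.1 = 0 ∧
    (P.D.act x v₁ + v₁).2.2 ≠ 0 ∧ (P.D.act x v₂ + v₂).2.2 ≠ 0 ∧
    (P.D.act x v₁ + v₁).2.2 ≠ (P.D.act x v₂ + v₂).2.2 ∧
    qV (P.D.act x v₁ + v₁) = 0 ∧ qV (P.D.act x v₂ + v₂) = 0 ∧
    ∀ u, ∃ i j : ZMod 2, (P.D.act x (emb u) + emb u).2.2 =
      i • (P.D.act x v₁ + v₁).2.2 + j • (P.D.act x v₂ + v₂).2.2

namespace Data

variable {z : G} {R : Subgroup G}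

theorem inv8 (D : Data z R) (hR : Good R z) {x : G} (hx : x * z = z * x) (hxx : x * x = 1) :
    Inv8 (D.act x) :=
  ⟨D.act_add hx (fun a ha => hR.norm x hx a ha), D.act_iso x hx,
    fun v => by rw [← D.act_mul hR hx hx, hxx, D.act_one hR]⟩

end Data

namespace Hyp

variable [Finite G] {z : G} {Qf : G → Subgroup G} (H : Hyp z Qf)
include H

/-- A moved singular vector becomes the second centre. -/
theorem adapt {w x : G} (hw : IsConj z w) (D : Data w (Qf w)) (hxw : x * w = w * x)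
    (hxx : x * x = 1) {u : V8} (hne : D.act x u + u ≠ 0) (hq : qV (D.act x u + u) = 0) :
    ∃ (s : G) (P : Pair w s Qf) (g : Iso), x * s = s * x ∧ g.map (D.act x u + u) = e₀ ∧
      ∀ v, P.D.act x (g.map v) = g.map (D.act x v) := by
  have gw := H.good_of hw
  obtain ⟨g, hg⟩ := witt_one hne hq
  obtain ⟨q₀, hq₀, hq₀u⟩ := (D.recoord g).phi_surj (g.map u)
  have hxi : x⁻¹ = x := inv_eq_of_mul_eq_one_right hxx
  have hact : ∀ v, (D.recoord g).act x (g.map v) = g.map (D.act x v) := fun v => by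
    show g.map (D.act x (g.map.symm (g.map v))) = _
    rw [AddEquiv.symm_apply_apply]
  obtain ⟨s, hs⟩ : ∃ s, s = x * q₀ * x⁻¹ * q₀⁻¹ := ⟨_, rfl⟩
  have hsw : s ∈ Qf w := hs ▸ mul_mem (gw.norm x hxw q₀ hq₀) (inv_mem hq₀)
  have hphi : (D.recoord g).phi s = e₀ := by
    rw [hs, (D.recoord g).phi_mul _ (gw.norm x hxw q₀ hq₀) _ (inv_mem hq₀),
      (D.recoord g).act_phi x hxw q₀ hq₀, (D.recoord g).phi_inv gw hq₀, hq₀u, hact, ← g.map.map_add,
      hg]
  obtain ⟨-, P, hP⟩ := H.pair_of hw (D.recoord g) hsw hphi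
  refine ⟨s, P, g, conj_eq_iff_comm.1 ?_, hg, fun v => by rw [hP, hact]⟩
  have hinv : s⁻¹ = s := inv_eq_of_mul_eq_one_right P.ss
  calc x * s * x⁻¹ = (x * x) * q₀ * x⁻¹ * q₀⁻¹ * x⁻¹ := by rw [hs]; group
    _ = q₀ * x * q₀⁻¹ * x⁻¹ := by rw [hxx, one_mul, hxi]
    _ = s⁻¹ := by rw [hs]; group
    _ = s := hinv

/-- One centre: reduced, or sixteen moved vectors with the plane data. -/
theorem first_step {w s x : G} (hw : IsConj z w) (P : Pair w s Qf) (hxw : x * w = w * x)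
    (hxs : x * s = s * x) (hxx : x * x = 1) {u₀ : V8} (he : P.D.act x u₀ + u₀ = e₀) :
    RedTo z Qf x ∨ (16 ≤ Nat.card (P.D.inv8 P.gz hxw hxx).move.range ∧
      ∃ v₁ v₂ : V8, v₁.2.1 = 0 ∧ v₂.2.1 = 0 ∧
      (P.D.act x v₁ + v₁).2.2 ≠ 0 ∧ (P.D.act x v₂ + v₂).2.2 ≠ 0 ∧
      (P.D.act x v₁ + v₁).2.2 ≠ (P.D.act x v₂ + v₂).2.2 ∧
      ∀ u, ∃ i j : ZMod 2, (P.D.act x (emb u) + emb u).2.2 =
        i • (P.D.act x v₁ + v₁).2.2 + j • (P.D.act x v₂ + v₂).2.2) := by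
  rcases trichotomy (P.D.inv8 P.gz hxw hxx) he with ⟨a, ha⟩ | ⟨m, a, hm, ha⟩ | h
  · obtain ⟨b, q, h1, h2, h3, h4, h5⟩ := P.exists_parts hxw hxs ha
    exact Or.inl ⟨x, IsConj.refl x, Or.inr ⟨w, s, P, b, q, hw, h1, h2, h3, h4, h5⟩⟩
  · refine absurd (fun v => ?_)
      (P.D.act_ne_refl (x * P.lift a) (Commute.mul_left hxw (P.lift_comm a) :) (emb m)
        (by simp [qV, emb, hm]))
    rw [P.D.act_mul P.gz hxw (P.lift_comm a), P.act_eq (P.lift_mem a) (P.lift_comm a),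
      P.alpha_lift, ha]
  · exact Or.inr h

/-- Reduced, or in standard position with sixteen moved vectors. -/
theorem dichotomy {w x : G} (hw : IsConj z w) (D : Data w (Qf w)) (hxw : x * w = w * x)
    (hxx : x * x = 1) (hx1 : x ≠ 1) :
    RedTo z Qf x ∨ (Big (D.act x) ∧ ∃ (s : G) (P : Pair w s Qf), HardPos P x) := by
  have gw := H.good_of hw
  have ht := D.inv8 gw hxw hxx
  by_cases hid : ∀ v, D.act x v = v
  · exact Or.inl ⟨x, IsConj.refl x,
      Or.inl (H.isConj_of_mem hw (D.act_eq_id x hxw hid) hxx hx1)⟩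
  push Not at hid
  obtain ⟨u, hne, hq⟩ : ∃ u, D.act x u + u ≠ 0 ∧ qV (D.act x u + u) = 0 := by
    by_contra hno
    push Not at hno
    obtain ⟨v₀, hv₀⟩ := hid
    have hv0 : D.act x v₀ + v₀ ≠ 0 := fun e => hv₀ (v8_eq_of_add e)
    have hall : ∀ v, D.act x v + v = 0 ∨ D.act x v + v = D.act x v₀ + v₀ := by
      intro v
      by_cases hv : D.act x v + v = 0
      · exact Or.inl hv
      refine Or.inr (v8_eq_of_add ?_)
      by_contra hsum
      rw [← ht.move_add] at hsum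
      refine hno _ hsum ?_
      rw [ht.move_add, ht.qV_moved_add, (zmod_cases _).resolve_left (hno v hv),
        (zmod_cases _).resolve_left (hno v₀ hv0)]
      rfl
    obtain ⟨hq1, href⟩ := ht.eq_refl hall ⟨v₀, hv₀⟩
    exact D.act_ne_refl x hxw _ hq1 href
  obtain ⟨s₁, P₁, g₁', hxs₁, hg₁, ha₁⟩ := H.adapt hw D hxw hxx hne hq
  have he₁ : P₁.D.act x (g₁'.map u) + g₁'.map u = e₀ := by rw [ha₁, ← g₁'.map.map_add, hg₁]
  rcases H.first_step hw P₁ hxw hxs₁ hxx he₁ with h | ⟨h16, v₁, v₂, k1, k2, k3, k4, k5, k6⟩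
  · exact Or.inl h
  have hbig : Big (D.act x) := Big.of_iso g₁' ha₁ ((P₁.D.inv8 gw hxw hxx).big h16)
  obtain ⟨u', hne', hq', hbetter⟩ :=
    (P₁.D.inv8 gw hxw hxx).exists_better he₁ k1 k2 k3 k4 k5 k6
  obtain ⟨s₂, P₂, g₂, hxs₂, hg₂, ha₂⟩ := H.adapt hw P₁.D hxw hxx hne' hq'
  have he₂ : P₂.D.act x (g₂.map u') + g₂.map u' = e₀ := by rw [ha₂, ← g₂.map.map_add, hg₂]
  rcases H.first_step hw P₂ hxw hxs₂ hxx he₂ with h | ⟨-, a₁, a₂, l1, l2, l3, l4, l5, l6⟩
  · exact Or.inl h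
  have hsing : ∀ a : V8, a.2.1 = 0 → qV (P₂.D.act x a + a) = 0 := by
    intro a ha
    obtain ⟨v, rfl⟩ := g₂.map.surjective a
    rw [ha₂, ← g₂.map.map_add, g₂.iso]
    refine hbetter v ?_
    rw [← g₂.bil, hg₂, bV_comm, bV_e₀, ha]
  exact Or.inr ⟨hbig, s₂, P₂, ⟨hxs₂, ⟨_, he₂⟩,
    a₁, a₂, l1, l2, l3, l4, l5, hsing a₁ l1, hsing a₂ l2, l6⟩⟩

/-- An involution with thirty-two fixed vectors at some centre is reduced. -/
theorem small {w x : G} (hw : IsConj z w) (D : Data w (Qf w)) (hxw : x * w = w * x)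
    (hxx : x * x = 1) (hx1 : x ≠ 1)
    (hf : ∃ f : ZMod 2 × ZMod 2 × ZMod 2 × H2 → V8, Function.Injective f ∧
      ∀ p, D.act x (f p) = f p) : RedTo z Qf x := by
  obtain ⟨f, hinj, hfix⟩ := hf
  exact (H.dichotomy hw D hxw hxx hx1).resolve_right fun h => h.1 f hinj hfix

end Hyp

end Cfsg.Agent.Lib.Co1Type47
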